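import Cfsg.Agent.Lib.GroupPartition.NormalMember

/-!
# A partition without normal parts and an abelian normal subgroup
-/

set_option autoImplicit false

namespace Cfsg.Agent.Lib.GroupPartition

variable {G : Type*} [Group G]

/-- The data: no part is normal and `A` is a nontrivial normal elementary abelian `p`-subgroup. -/
structure AbData (P : Partn G) (A : Subgroup G) (p : ℕ) : Prop where
  hno : ∀ x, x ≠ 1 → ¬ (P.M x).Normal
  normal : A.Normal
  comm : ∀ a ∈ A, ∀ b ∈ A, a * b = b * a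
  pexp : ∀ a ∈ A, a ^ p = 1
  ne_bot : A ≠ ⊥
  prime : p.Prime

/-- If every element of `A` is congruent to its `y`-conjugate modulo `A1`, the elements of `A`
fixed by `y` lie in `A1` and `y` has order prime to `p`, then `A = A1`. -/
theorem le_of_norm_trick [Finite G] (A A1 : Subgroup G) [A.Normal]
    (hcom : ∀ a ∈ A, ∀ b ∈ A, a * b = b * a) {p : ℕ} (hp : p.Prime) (hexp : ∀ a ∈ A, a ^ p = 1)
    {y : G} (hy : ¬ p ∣ orderOf y) (hcon : ∀ b ∈ A, y * b * y⁻¹ * b⁻¹ ∈ A1)
    (hfix : ∀ b ∈ A, Commute y b → b ∈ A1) : A ≤ A1 := by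
  classical
  letI : CommGroup A :=
    { (inferInstance : Group A) with mul_comm := fun a b => Subtype.ext (hcom a a.2 b b.2) }
  have hconj : ∀ (j : ℕ), ∀ b ∈ A, y ^ j * b * (y ^ j)⁻¹ ∈ A := fun j b hb =>
    Subgroup.Normal.conj_mem inferInstance b hb _
  have hcon' : ∀ (j : ℕ), ∀ b ∈ A, y ^ j * b * (y ^ j)⁻¹ * b⁻¹ ∈ A1 := by
    intro j
    induction j with
    | zero => intro b _; simp [A1.one_mem]
    | succ j ih =>
      intro b hb
      have := A1.mul_mem (hcon _ (hconj j b hb)) (ih b hb)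
      convert this using 1
      rw [pow_succ']
      group
  intro b hb
  obtain ⟨n, hn⟩ : ∃ n, n = orderOf y := ⟨_, rfl⟩
  let cj : ℕ → A := fun j => ⟨y ^ j * b * (y ^ j)⁻¹, hconj j b hb⟩
  let c1 : A →* A :=
    { toFun := fun w => ⟨y * w * y⁻¹, Subgroup.Normal.conj_mem inferInstance _ w.2 y⟩
      map_one' := by ext; simp
      map_mul' := fun a b => by ext; simp only [Subgroup.coe_mul]; group }
  let π : A := ∏ j ∈ Finset.range n, cj j
  have hπ : c1 π = π := by
    have h1 : c1 π * cj 0 = π * cj n := by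
      show c1 (∏ j ∈ Finset.range n, cj j) * cj 0 = (∏ j ∈ Finset.range n, cj j) * cj n
      rw [map_prod, ← Finset.prod_range_succ, Finset.prod_range_succ']
      congr 1
      refine Finset.prod_congr rfl fun j _ => ?_
      ext
      simp only [c1, cj, MonoidHom.coe_mk, OneHom.coe_mk, pow_succ']
      group
    have h2 : cj n = cj 0 := by
      ext
      simp only [cj, hn, pow_orderOf_eq_one, pow_zero]
    rw [h2] at h1
    exact mul_right_cancel h1
  have hπ1 : (π : G) ∈ A1 :=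
    hfix _ π.2 (mul_inv_eq_iff_eq_mul.1 (congrArg Subtype.val hπ))
  have hcong : π * (⟨b, hb⟩ ^ n)⁻¹ ∈ A1.subgroupOf A := by
    have e : π * (⟨b, hb⟩ ^ n)⁻¹ = ∏ j ∈ Finset.range n, cj j * (⟨b, hb⟩ : A)⁻¹ := by
      rw [Finset.prod_mul_distrib, Finset.prod_const, Finset.card_range, inv_pow]
    rw [e]
    refine Subgroup.prod_mem _ fun j _ => ?_
    rw [Subgroup.mem_subgroupOf]
    exact hcon' j b hb
  have hbn : b ^ n ∈ A1 := by
    have := A1.mul_mem (A1.inv_mem (Subgroup.mem_subgroupOf.1 hcong)) hπ1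
    simpa [mul_assoc] using this
  have hco : n.Coprime p := (hp.coprime_iff_not_dvd.2 (hn ▸ hy)).symm
  obtain ⟨i, -, hi⟩ := Nat.exists_mul_mod_eq_one_of_coprime hco hp.one_lt
  have e : (b ^ n) ^ i = b := by
    rw [← pow_mul, ← Nat.mod_add_div (n * i) p, hi, pow_add, pow_mul, hexp b hb, one_pow, mul_one,
      pow_one]
  exact e ▸ A1.pow_mem hbn i

namespace AbData

variable {P : Partn G} {A : Subgroup G} {p : ℕ} (d : AbData P A p)
include d

theorem conjA {b : G} (g : G) (hb : b ∈ A) : g * b * g⁻¹ ∈ A := d.normal.conj_mem b hb g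

theorem conjA' {b : G} (g : G) (hb : b ∈ A) : g⁻¹ * b * g ∈ A := by
  simpa using d.conjA g⁻¹ hb

theorem exists_ne : ∃ a ∈ A, a ≠ 1 := (Subgroup.bot_or_exists_ne_one A).resolve_left d.ne_bot

theorem orderOf_eq {a : G} (ha : a ∈ A) (h1 : a ≠ 1) : orderOf a = p :=
  haveI := Fact.mk d.prime
  orderOf_eq_prime (d.pexp a ha) h1

theorem not_le {x : G} (hx : x ≠ 1) : ¬ A ≤ P.M x := by
  intro hle
  obtain ⟨a, ha, ha1⟩ := d.exists_ne
  refine d.hno x hx ⟨fun z hz g => ?_⟩
  have e1 : P.M a = P.M x := P.eq_of_mem x a hx ha1 (hle ha)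
  have hg1 : g * a * g⁻¹ ≠ 1 := fun e => ha1 (by
    calc a = g⁻¹ * (g * a * g⁻¹) * g := by group
      _ = 1 := by rw [e]; group)
  rw [← P.eq_of_mem x _ hx hg1 (hle (d.conjA g ha))]
  exact P.conj_mem g a z (e1 ▸ hz)

theorem norm_mem {a0 b z : G} (ha0 : a0 ∈ A) (hb : b ∈ A) (hz : z ∈ P.M a0) :
    b * z * b⁻¹ ∈ P.M a0 :=
  P.conj_mem_of_commute (d.comm b hb a0 ha0) hz

variable [Finite G]

/-- The parts meeting `A` have no nontrivial elements of order prime to `p`. -/
theorem pFree {a0 y : G} (ha0 : a0 ∈ A) (h1 : a0 ≠ 1) (hy : y ∈ P.M a0)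
    (hyp : ¬ p ∣ orderOf y) : y = 1 := by
  by_contra hy1
  haveI := d.normal
  refine d.not_le h1 ((le_of_norm_trick A (A ⊓ P.M a0) d.comm d.prime d.pexp hyp ?_ ?_).trans
    inf_le_right)
  · intro b hb
    refine ⟨A.mul_mem (d.conjA y hb) (A.inv_mem hb), ?_⟩
    rw [show y * b * y⁻¹ * b⁻¹ = y * (b * y⁻¹ * b⁻¹) by group]
    exact (P.M a0).mul_mem hy (d.norm_mem ha0 hb ((P.M a0).inv_mem hy))
  · intro b hb hc
    refine ⟨hb, ?_⟩
    by_cases hb1 : b = 1
    · rw [hb1]; exact one_mem _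
    · have e := P.eq_of_orderOf_ne hy1 hb1 hc
        (fun e => hyp (by rw [e, d.orderOf_eq hb hb1]))
      rw [← P.eq_of_mem a0 y h1 hy1 hy, e]
      exact P.mem b

/-- Elements of order prime to `p` act freely on `A`. -/
theorem free {a y : G} (ha : a ∈ A) (h1 : a ≠ 1) (hyp : ¬ p ∣ orderOf y) (hc : Commute y a) :
    y = 1 := by
  by_contra hy1
  have e := P.eq_of_orderOf_ne hy1 h1 hc (fun e => hyp (by rw [e, d.orderOf_eq ha h1]))
  exact hy1 (d.pFree ha h1 (e ▸ P.mem y) hyp)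

/-- Elements of order prime to `p` never commute with nontrivial `p`-elements. -/
theorem not_commute {u y : G} {i : ℕ} (hu : orderOf u = p ^ i) (hu1 : u ≠ 1) (hy1 : y ≠ 1)
    (hyp : ¬ p ∣ orderOf y) : ¬ Commute u y := by
  intro hc
  haveI := Fact.mk d.prime
  haveI := d.normal
  have hi : i ≠ 0 := by rintro rfl; exact hu1 (orderOf_eq_one_iff.1 (by rw [hu, pow_zero]))
  have hM : P.M u = P.M y := P.eq_of_orderOf_ne hu1 hy1 hc
    (fun e => hyp (by rw [← e, hu]; exact dvd_pow_self p hi))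
  obtain ⟨a1, ha1, ha1'⟩ := d.exists_ne
  obtain ⟨a, ha, ha1, hac⟩ := exists_commute_of_pGroup A (p := p)
    (by rw [← d.orderOf_eq ha1 ha1']; exact A.orderOf_dvd_natCard ha1)
    (Subgroup.zpowers u) (IsPGroup.of_card (n := i) (by rw [Nat.card_zpowers, hu]))
  have hyM : y ∈ P.M u := hM ▸ P.mem y
  have hcM : a * y * a⁻¹ * y⁻¹ ∈ P.M u :=
    (P.M u).mul_mem (P.conj_mem_of_commute (hac u (Subgroup.mem_zpowers u)).symm hyM)
      ((P.M u).inv_mem hyM)
  have hcA : a * y * a⁻¹ * y⁻¹ ∈ A := by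
    rw [show a * y * a⁻¹ * y⁻¹ = a * (y * a⁻¹ * y⁻¹) by group]
    exact A.mul_mem ha (d.conjA y (A.inv_mem ha))
  by_cases hc1 : a * y * a⁻¹ * y⁻¹ = 1
  · exact hy1 (d.free ha ha1 hyp (mul_inv_eq_iff_eq_mul.1 (mul_inv_eq_one.1 hc1)).symm)
  · exact hy1 (d.pFree hcA hc1 (by rw [P.eq_of_mem u _ hu1 hc1 hcM]; exact hyM) hyp)

theorem isPGroup_centralizer : IsPGroup p (Subgroup.centralizer (A : Set G)) := by
  rintro ⟨c, hc⟩
  obtain ⟨a, ha, ha1⟩ := d.exists_ne
  have hcp : ∀ r : ℕ, r.Prime → r ∣ orderOf c → r = p := by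
    intro r hr hrc
    by_contra hrp
    obtain ⟨k, hk⟩ := exists_pow_orderOf_eq hr hrc
    have := d.free ha ha1 (y := c ^ k)
      (by rw [hk]; exact fun e => hrp ((Nat.prime_dvd_prime_iff_eq d.prime hr).1 e).symm)
      (Commute.pow_left (Subgroup.mem_centralizer_iff.1 hc a ha).symm k)
    rw [this, orderOf_one] at hk
    exact hr.one_lt.ne hk
  have e := Nat.eq_prime_pow_of_unique_prime_dvd (orderOf_pos c).ne'
    (fun {r} hr hrc => hcp r hr hrc)
  refine ⟨_, Subtype.ext (?_ : c ^ p ^ (orderOf c).primeFactorsList.length = 1)⟩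
  rw [← e, pow_orderOf_eq_one]

/-- With `NoNorm p`, the Sylow `p`-subgroup is normal. -/
theorem sylow_normal (h : NoNorm p G) :
    ∃ T : Subgroup G, T.Normal ∧ IsPGroup p T ∧ ¬ p ∣ T.index := by
  have hp := d.prime
  rcases eq_or_ne p 2 with h2 | h2
  · subst h2; exact h.sylow_two
  by_cases hev : Even (Nat.card G)
  swap
  · haveI := S0205.result (Nat.not_even_iff_odd.1 hev)
    exact h.sylow_solvable hp
  haveI := d.normal
  haveI : Fact (Nat.Prime 2) := ⟨Nat.prime_two⟩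
  obtain ⟨z, hz⟩ := exists_prime_orderOf_dvd_card' (G := G) 2 (even_iff_two_dvd.1 hev)
  have hfree : ∀ y : G, orderOf y = 2 → ∀ a ∈ A, Commute y a → a = 1 := by
    intro y hy a ha hc
    by_contra ha1
    have := d.free ha ha1
      (by rw [hy]; exact fun e => h2 ((Nat.prime_dvd_prime_iff_eq hp Nat.prime_two).1 e)) hc
    rw [this, orderOf_one] at hy
    omega
  haveI : (Subgroup.centralizer (A : Set G)).Normal := Subgroup.normal_centralizer
  refine ⟨_, inferInstance, d.isPGroup_centralizer,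
    not_dvd_index_of_involution hp h2 hz (Subgroup.centralizer (A : Set G))
      d.isPGroup_centralizer ?_ ?_⟩
  · intro g
    rw [Subgroup.mem_centralizer_iff]
    intro a ha
    have hy : orderOf (g * z * g⁻¹) = 2 := by rw [Involution.orderOf_conj_eq, hz]
    have e1 := inverts_of_free A (fun h hh => d.conjA z hh) (Involution.mul_self_eq_one hz) (hfree z hz) ha
    have e2 := inverts_of_free A (fun h hh => d.conjA (g * z * g⁻¹) hh) (Involution.mul_self_eq_one hy)
      (hfree _ hy) (A.inv_mem ha)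
    rw [inv_inv] at e2
    have e3 : (g * z * g⁻¹ * z) * a * (g * z * g⁻¹ * z)⁻¹ = a := by
      calc _ = g * z * g⁻¹ * (z * a * z⁻¹) * (g * z * g⁻¹)⁻¹ := by group
        _ = a := by rw [e1, e2]
    exact (mul_inv_eq_iff_eq_mul.1 e3).symm
  · intro n hn hc
    have hn1 : n ≠ 1 := fun e => by rw [e, orderOf_one] at hn; exact hp.one_lt.ne hn
    have hz1 : z ≠ 1 := Involution.ne_one hz
    exact d.not_commute (i := 1) (by rw [hn, pow_one]) hn1 hz1
      (by rw [hz]; exact fun e => h2 ((Nat.prime_dvd_prime_iff_eq hp Nat.prime_two).1 e)) hc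

/-- The main counting: `A` is a four-group. -/
theorem card_four {x : G} (hx : orderOf x = p) {t : ℕ} (ht : t.Prime) (htp : t ≠ p)
    (R : Subgroup G) (hR : IsPGroup t R) (hR1 : R ≠ ⊥)
    (hnorm : ∀ r ∈ R, x * r * x⁻¹ ∈ R) : p = 2 ∧ Nat.card A = 4 := by
  have hp := d.prime
  haveI := d.normal
  have hxp : x ^ p = 1 := by rw [← hx, pow_orderOf_eq_one]
  have hx1 : x ≠ 1 := fun e => by rw [e, orderOf_one] at hx; exact hp.one_lt.ne hx
  have hRp : ∀ r ∈ R, ¬ p ∣ orderOf r := fun r hr e => htp (eq_of_dvd_orderOf ht hp hR hr e).symm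
  have hCR : ∀ r ∈ R, Commute x r → r = 1 := fun r hr hc => by
    by_contra hr1
    exact d.not_commute (i := 1) (by rw [hx, pow_one]) hx1 hr1 (hRp r hr) hc
  obtain ⟨r1, hr1R, hr11⟩ := (Subgroup.bot_or_exists_ne_one R).resolve_left hR1
  obtain ⟨a, ha, hax⟩ : ∃ a ∈ A, (a * x) ^ p ≠ 1 := by
    by_contra hall
    push Not at hall
    have h := split_pow_card_eq_one A R hp hxp d.comm (fun r _ v hv => d.conjA r hv)
      (fun v hv => d.conjA x hv) hnorm hall hCR (fun v hv hc => by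
        by_contra hv1
        exact hr11 (d.free hv hv1 (hRp r1 hr1R) (hc r1 hr1R)))
    obtain ⟨v, hv, hv1⟩ := d.exists_ne
    have h1 := orderOf_dvd_of_pow_eq_one (h v hv)
    rw [d.orderOf_eq hv hv1] at h1
    haveI := Fact.mk ht
    obtain ⟨m, hm⟩ := IsPGroup.iff_card.1 hR
    rw [hm] at h1
    exact htp ((Nat.prime_dvd_prime_iff_eq hp ht).1 (hp.dvd_of_dvd_pow h1)).symm
  obtain ⟨a0, ha0⟩ : ∃ a0, a0 = (a * x) ^ p := ⟨_, rfl⟩
  have ha01 : a0 ≠ 1 := ha0 ▸ hax
  have ha0A : a0 ∈ A := by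
    rw [ha0, ← QuotientGroup.eq_one_iff, QuotientGroup.mk_pow, QuotientGroup.mk_mul,
      (QuotientGroup.eq_one_iff a).2 ha, one_mul, ← QuotientGroup.mk_pow, hxp,
      QuotientGroup.mk_one]
  have haxM : a * x ∈ P.M a0 := by rw [ha0, P.eq_pow hax]; exact P.mem _
  -- fixed points lie in the part
  have hcA : ∀ b ∈ A, Commute x b → b ∈ P.M a0 := by
    intro b hb hc
    by_cases hb1 : b = 1
    · rw [hb1]; exact one_mem _
    have hax1 : a * x ≠ 1 := fun e => hax (by rw [e, one_pow])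
    have e := P.eq_of_orderOf_ne hax1 hb1 (Commute.mul_left (d.comm a ha b hb) hc) fun e => hax (by
      rw [← d.orderOf_eq hb hb1, ← e, pow_orderOf_eq_one])
    rw [ha0, P.eq_pow hax, e]
    exact P.mem b
  -- commutators with `x` lie in the part
  have hφM : ∀ b ∈ A, b * (x * b⁻¹ * x⁻¹) ∈ P.M a0 := by
    intro b hb
    have h1 : b * (a * x) * b⁻¹ * (a * x)⁻¹ ∈ P.M a0 :=
      (P.M a0).mul_mem (d.norm_mem ha0A hb haxM) ((P.M a0).inv_mem haxM)
    have hc : b * (x * b⁻¹ * x⁻¹) ∈ A := A.mul_mem hb (d.conjA x (A.inv_mem hb))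
    have e : b * (a * x) * b⁻¹ * (a * x)⁻¹ = b * (x * b⁻¹ * x⁻¹) := by
      calc b * (a * x) * b⁻¹ * (a * x)⁻¹ = (b * a) * x * b⁻¹ * x⁻¹ * a⁻¹ := by group
        _ = (a * b) * x * b⁻¹ * x⁻¹ * a⁻¹ := by rw [d.comm b hb a ha]
        _ = a * (b * (x * b⁻¹ * x⁻¹)) * a⁻¹ := by group
        _ = b * (x * b⁻¹ * x⁻¹) := by rw [d.comm a ha _ hc, mul_inv_cancel_right]
    rwa [e] at h1
  let A1 : Subgroup G := A ⊓ P.M a0
  have hA1A : A1 ≤ A := inf_le_left
  -- some element of `R` moves `A1`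
  obtain ⟨r, hr, b0, hb0, hb0r⟩ : ∃ r ∈ R, ∃ b ∈ A1, r * b * r⁻¹ ∉ A1 := by
    by_contra hall
    push Not at hall
    have hcR : r1 * x * r1⁻¹ * x⁻¹ ∈ R := by
      rw [show r1 * x * r1⁻¹ * x⁻¹ = r1 * (x * r1⁻¹ * x⁻¹) by group]
      exact R.mul_mem hr1R (hnorm _ (R.inv_mem hr1R))
    have hc1 : r1 * x * r1⁻¹ * x⁻¹ ≠ 1 := fun e => hr11
      (hCR r1 hr1R (mul_inv_eq_iff_eq_mul.1 (mul_inv_eq_one.1 e)).symm)
    apply d.not_le ha01
    refine (le_of_norm_trick A A1 d.comm hp d.pexp (hRp _ hcR) ?_ ?_).trans inf_le_right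
    · intro b hb
      have hb'' : x⁻¹ * b * x ∈ A := d.conjA' x hb
      have hb' : r1⁻¹ * (x⁻¹ * b * x) * r1 ∈ A := d.conjA' r1 hb''
      have h1 := hall r1 hr1R _ (A1.inv_mem
        (show _ ∈ A1 from ⟨A.mul_mem hb' (d.conjA x (A.inv_mem hb')), hφM _ hb'⟩))
      have h2 : (x⁻¹ * b * x) * (x * (x⁻¹ * b * x)⁻¹ * x⁻¹) ∈ A1 :=
        ⟨A.mul_mem hb'' (d.conjA x (A.inv_mem hb'')), hφM _ hb''⟩
      convert A1.mul_mem h1 h2 using 1
      group
    · intro b hb hc
      by_cases hb1 : b = 1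
      · rw [hb1]; exact one_mem _
      · exact absurd (d.free hb hb1 (hRp _ hcR) hc) hc1
  -- counting
  let A2 : Subgroup G := A ⊓ P.M (r * a0 * r⁻¹)
  have hr01 : r * a0 * r⁻¹ ≠ 1 := fun e => ha01 (by
    calc a0 = r⁻¹ * (r * a0 * r⁻¹) * r := by group
      _ = 1 := by rw [e]; group)
  have hdisj : ∀ z ∈ A1, z ∈ A2 → z = 1 := by
    intro z hz1 hz2
    refine P.inf_eq_one ha01 hr01 ?_ hz1.2 hz2.2
    intro e
    exact hb0r ⟨d.conjA r hb0.1, e ▸ P.conj_mem r a0 b0 hb0.2⟩
  have hA2 : A2 = A1.map (MulAut.conj r).toMonoidHom := by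
    ext z
    rw [Subgroup.mem_map_equiv, MulAut.conj_symm_apply]
    constructor
    · rintro ⟨h1, h2⟩
      refine ⟨d.conjA' r h1, ?_⟩
      show r⁻¹ * z * r ∈ P.M a0
      rw [← P.mem_conj_iff r, show r * (r⁻¹ * z * r) * r⁻¹ = z by group]
      exact h2
    · rintro ⟨h1, h2⟩
      have hz : z = r * (r⁻¹ * z * r) * r⁻¹ := by group
      rw [hz]
      exact ⟨d.conjA r h1, P.conj_mem r a0 _ h2⟩
  have hcard2 : Nat.card A2 = Nat.card A1 := by
    rw [hA2]
    exact Subgroup.card_map_of_injective (K := A1) (MulAut.conj r).injective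
  have hle : Nat.card A1 * Nat.card A1 ≤ Nat.card A := by
    nth_rewrite 2 [← hcard2]
    rw [← Nat.card_prod]
    refine Nat.card_le_card_of_injective
      (fun u : A1 × A2 => (⟨u.1 * u.2, A.mul_mem u.1.2.1 u.2.2.1⟩ : A)) ?_
    rintro ⟨u1, u2⟩ ⟨v1, v2⟩ h
    have h' := congrArg Subtype.val h
    simp only at h'
    have e : (v1 : G)⁻¹ * u1 = v2 * (u2 : G)⁻¹ := by
      rw [inv_mul_eq_iff_eq_mul, ← mul_assoc, ← h', mul_inv_cancel_right]
    have h1 : (v1 : G)⁻¹ * u1 = 1 := hdisj _ (A1.mul_mem (A1.inv_mem v1.2) u1.2)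
      (e ▸ A2.mul_mem v2.2 (A2.inv_mem u2.2))
    have hu : u1 = v1 := Subtype.ext (inv_mul_eq_one.1 h1).symm
    subst hu
    exact Prod.ext rfl (Subtype.ext (mul_left_cancel h'))
  let φ : A →* A :=
    { toFun := fun b => ⟨b * (x * (b : G)⁻¹ * x⁻¹), A.mul_mem b.2 (d.conjA x (A.inv_mem b.2))⟩
      map_one' := by ext; simp
      map_mul' := fun b c => by
        ext
        simp only [Subgroup.coe_mul]
        have h2 := d.comm _ c.2 _ (d.conjA x (A.inv_mem b.2))
        calc (b : G) * c * (x * ((b : G) * c)⁻¹ * x⁻¹)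
            = b * (c * ((x * (c : G)⁻¹ * x⁻¹) * (x * (b : G)⁻¹ * x⁻¹))) := by group
          _ = b * (c * ((x * (b : G)⁻¹ * x⁻¹) * (x * (c : G)⁻¹ * x⁻¹))) := by
              rw [d.comm _ (d.conjA x (A.inv_mem c.2)) _ (d.conjA x (A.inv_mem b.2))]
          _ = b * ((c * (x * (b : G)⁻¹ * x⁻¹)) * (x * (c : G)⁻¹ * x⁻¹)) := by rw [mul_assoc (c : G)]
          _ = b * (x * (b : G)⁻¹ * x⁻¹) * (c * (x * (c : G)⁻¹ * x⁻¹)) := by
              rw [h2]; simp only [mul_assoc] }
  have hker : φ.ker ≤ A1.subgroupOf A := by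
    intro b hb
    have e : (b : G) * (x * (b : G)⁻¹ * x⁻¹) = 1 := congrArg Subtype.val hb
    refine ⟨b.2, hcA b b.2 ?_⟩
    show x * b = b * x
    calc x * (b : G) = 1 * (x * b) := (one_mul _).symm
      _ = b * (x * (b : G)⁻¹ * x⁻¹) * (x * b) := by rw [e]
      _ = b * x := by group
  have hrange : φ.range ≤ A1.subgroupOf A := by
    rintro _ ⟨b, rfl⟩
    exact ⟨(φ b).2, hφM b b.2⟩
  have hcA1 : Nat.card (A1.subgroupOf A) = Nat.card A1 :=
    Nat.card_congr (Subgroup.subgroupOfEquivOfLe hA1A).toEquiv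
  have hmul : Nat.card φ.ker * Nat.card φ.range = Nat.card A := by
    rw [← Subgroup.index_ker, Subgroup.card_mul_index]
  have hk := Subgroup.card_le_of_le hker
  have hr' := Subgroup.card_le_of_le hrange
  rw [hcA1] at hk hr'
  have hpos : 0 < Nat.card A1 := Nat.card_pos
  have hAsq : Nat.card A = Nat.card A1 * Nat.card A1 :=
    le_antisymm (hmul ▸ Nat.mul_le_mul hk hr') hle
  have hkeq : φ.ker = A1.subgroupOf A := by
    apply Subgroup.eq_of_le_of_card_ge hker
    rw [hcA1]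
    by_contra hlt
    push Not at hlt
    nlinarith [hmul, hr', hAsq]
  have hφfix : ∀ b ∈ A, Commute x (b * (x * b⁻¹ * x⁻¹)) := by
    intro b hb
    have hmem : φ ⟨b, hb⟩ ∈ φ.ker := by rw [hkeq]; exact hrange ⟨_, rfl⟩
    have e : (b * (x * b⁻¹ * x⁻¹)) * (x * (b * (x * b⁻¹ * x⁻¹))⁻¹ * x⁻¹) = 1 :=
      congrArg Subtype.val hmem
    generalize b * (x * b⁻¹ * x⁻¹) = w at e
    show x * w = w * x
    calc x * w = 1 * (x * w) := (one_mul _).symm
      _ = w * (x * w⁻¹ * x⁻¹) * (x * w) := by rw [e]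
      _ = w * x := by group
  have hp2 : p = 2 := by
    by_contra hp2
    obtain ⟨c, hc⟩ : ∃ c, c = a⁻¹ * (x * a * x⁻¹) := ⟨_, rfl⟩
    have hxc : x * c * x⁻¹ = c := by
      apply mul_inv_eq_iff_eq_mul.2
      have := hφfix a⁻¹ (A.inv_mem ha)
      rw [inv_inv, ← hc] at this
      exact this
    have hcA' : c ∈ A := hc ▸ A.mul_mem (A.inv_mem ha) (d.conjA x ha)
    have hxa : x * a * x⁻¹ = a * c := by rw [hc, mul_inv_cancel_left]
    have hpw : ∀ n : ℕ, (a * x) ^ n = a ^ n * c ^ n.choose 2 * x ^ n := by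
      intro n
      induction n with
      | zero => simp
      | succ n ih =>
        have h1 : a * ((a * c) ^ n * c ^ n.choose 2) = a ^ (n + 1) * c ^ (n + 1).choose 2 := by
          rw [(show Commute a c from d.comm a ha c hcA').mul_pow, pow_succ' a n,
            show (n + 1).choose 2 = n + n.choose 2 by
              rw [Nat.choose_succ_succ' n 1, Nat.choose_one_right], pow_add]
          simp only [mul_assoc]
        rw [pow_succ', ih, ← h1, ← hxa]
        conv_rhs => rw [show c ^ n.choose 2 = (x * c * x⁻¹) ^ n.choose 2 by rw [hxc]]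
        rw [conj_pow, conj_pow, pow_succ']
        group
    apply hax
    rw [hpw, d.pexp a ha, hxp, one_mul, mul_one]
    obtain ⟨k, hk⟩ := hp.dvd_choose_self (two_ne_zero)
      (lt_of_le_of_ne hp.two_le (Ne.symm hp2))
    rw [hk, pow_mul, d.pexp c hcA', one_pow]
  refine ⟨hp2, ?_⟩
  have hout : ∀ b ∈ A, b ∉ P.M a0 → b * x ∈ P.M a0 := by
    intro b hb hbM
    have hbb : b * b = 1 := by rw [← pow_two, ← hp2, d.pexp b hb]
    have hxx : x * x = 1 := by rw [← pow_two, ← hp2, hxp]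
    have e : (b * x) ^ 2 = b * (x * b⁻¹ * x⁻¹) := by
      rw [Involution.inv_eq_self hbb, Involution.inv_eq_self hxx, pow_two]
      simp only [mul_assoc]
    have hne : b * (x * b⁻¹ * x⁻¹) ≠ 1 := by
      intro e'
      have hmem : (⟨b, hb⟩ : A) ∈ φ.ker := Subtype.ext e'
      rw [hkeq] at hmem
      exact hbM hmem.2
    rw [← P.eq_of_mem a0 _ ha01 hne (hφM b hb), ← e, P.eq_pow (e ▸ hne)]
    exact P.mem _
  obtain ⟨b1, hb1, hb1M⟩ := SetLike.not_le_iff_exists.1 (d.not_le ha01)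
  have hidx : (A1.subgroupOf A).index = 2 := by
    rw [Subgroup.index_eq_two_iff]
    refine ⟨⟨b1, hb1⟩, fun b => ?_⟩
    rcases Classical.em ((b : G) ∈ P.M a0) with hb | hb
    · refine Or.inr ⟨⟨b.2, hb⟩, fun h => hb1M ?_⟩
      have h' : (b : G) * b1 ∈ P.M a0 := h.2
      simpa using (P.M a0).mul_mem ((P.M a0).inv_mem hb) h'
    · refine Or.inl ⟨⟨A.mul_mem b.2 hb1, ?_⟩, fun h => hb h.2⟩
      have h' := (P.M a0).mul_mem (hout b b.2 hb) ((P.M a0).inv_mem (hout b1 hb1 hb1M))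
      have hb1b : b1⁻¹ = b1 := Involution.inv_eq_self (by rw [← pow_two, ← hp2, d.pexp b1 hb1])
      show (b : G) * b1 ∈ P.M a0
      convert h' using 1
      rw [mul_inv_rev, hb1b]
      group
  have h2 := (A1.subgroupOf A).card_mul_index
  rw [hidx, hcA1, hAsq] at h2
  have h3 : Nat.card A1 = 2 := (Nat.eq_of_mul_eq_mul_left hpos h2).symm
  rw [hAsq, h3]

end AbData

theorem perm_four [Finite G] {P : Partn G} {A : Subgroup G} (d : AbData P A 2) {x : G}
    (hx : orderOf x = 2) {t : ℕ} (ht : t.Prime) (ht2 : t ≠ 2) (R : Subgroup G)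
    (hR : IsPGroup t R) (hR1 : R ≠ ⊥) (hnorm : ∀ r ∈ R, x * r * x⁻¹ ∈ R) :
    Nonempty (G ≃* Equiv.Perm (Fin 4)) := by
  classical
  haveI := Fintype.ofFinite G
  haveI := d.normal
  have hA4 : Nat.card A = 4 := (d.card_four hx ht ht2 R hR hR1 hnorm).2
  -- the centraliser of `A` is `A`
  have hC2 : ∀ c ∈ Subgroup.centralizer (A : Set G), c ^ 2 = 1 := by
    intro c hc
    by_contra hne
    have hc1 : c ≠ 1 := fun e => hne (by rw [e, one_pow])
    refine d.not_le hc1 fun a ha => ?_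
    by_cases ha1 : a = 1
    · rw [ha1]; exact one_mem _
    · rw [P.eq_of_orderOf_ne hc1 ha1 (Subgroup.mem_centralizer_iff.1 hc a ha).symm
        (fun e => hne (by rw [← d.orderOf_eq ha ha1, ← e, pow_orderOf_eq_one]))]
      exact P.mem a
  have hAC : A ≤ Subgroup.centralizer (A : Set G) := fun a ha =>
    Subgroup.mem_centralizer_iff.2 fun b hb => d.comm b hb a ha
  have hCeq : Subgroup.centralizer (A : Set G) = A := by
    have dC : AbData P (Subgroup.centralizer (A : Set G)) 2 :=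
      { hno := d.hno
        normal := Subgroup.normal_centralizer
        comm := fun a ha b hb => by
          have hab := hC2 _ ((Subgroup.centralizer (A : Set G)).mul_mem ha hb)
          have e1 : a⁻¹ = a := Involution.inv_eq_self (by rw [← pow_two, hC2 a ha])
          have e2 : b⁻¹ = b := Involution.inv_eq_self (by rw [← pow_two, hC2 b hb])
          have e3 : (a * b)⁻¹ = a * b := Involution.inv_eq_self (by rw [← pow_two, hab])
          rw [← e3, mul_inv_rev, e1, e2]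
        pexp := hC2
        ne_bot := fun e => d.ne_bot (le_bot_iff.1 (e ▸ hAC))
        prime := Nat.prime_two }
    refine (Subgroup.eq_of_le_of_card_ge hAC ?_).symm
    rw [(dC.card_four hx ht ht2 R hR hR1 hnorm).2, hA4]
  -- the action on the involutions of `A`
  let f : G →* Equiv.Perm {a : A // a ≠ 1} :=
    { toFun := fun g => (MulAut.conjNormal g).toEquiv.subtypeEquiv fun a => by
        simp only [MulEquiv.toEquiv_eq_coe, MulEquiv.coe_toEquiv, ne_eq, EquivLike.coe_coe,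
          map_eq_one_iff _ (MulEquiv.injective _)]
      map_one' := by
        ext a
        simp
      map_mul' := fun g h => by
        ext a
        simp }
  have hker : ∀ g, f g = 1 → g ∈ A := by
    intro g hg
    rw [← hCeq, Subgroup.mem_centralizer_iff]
    intro a ha
    by_cases ha1 : a = 1
    · rw [ha1, one_mul, mul_one]
    have h1 := congrArg (fun e : Equiv.Perm {a : A // a ≠ 1} =>
      ((e ⟨⟨a, ha⟩, fun e => ha1 (congrArg Subtype.val e)⟩).1 : G)) hg
    simp [f] at h1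
    exact (mul_inv_eq_iff_eq_mul.1 h1).symm
  have hP6 : Nat.card (Equiv.Perm {a : A // a ≠ 1}) = 6 := by
    haveI := Fintype.ofFinite A
    have h4 : Fintype.card A = 4 := by rw [← Nat.card_eq_fintype_card, hA4]
    rw [Nat.card_eq_fintype_card, Fintype.card_perm]
    rw [Fintype.card_subtype_compl, Fintype.card_subtype_eq, h4]
    rfl
  have hcard : Nat.card G = f.ker.index * Nat.card f.ker := f.ker.index_mul_card.symm
  have hfker : f.ker = A := by
    refine le_antisymm hker fun a ha => ?_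
    ext b
    simp [f, d.comm a ha b.1 b.1.2]
  have hidx : A.index ∣ 6 := by
    rw [← hfker, Subgroup.index_ker, ← hP6]
    exact Subgroup.card_subgroup_dvd_card _
  have hG : Nat.card G = A.index * 4 := by rw [hcard, hfker, hA4]
  -- the complement
  let K : Subgroup G := Subgroup.normalizer (R : Set G)
  obtain ⟨r0, hr0, hr01⟩ := (Subgroup.bot_or_exists_ne_one R).resolve_left hR1
  have hRA : ∀ r ∈ R, ¬ 2 ∣ orderOf r := fun r hr e =>
    ht2 (eq_of_dvd_orderOf ht Nat.prime_two hR hr e).symm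
  have hKA : ∀ g ∈ K, g ∈ A → g = 1 := by
    intro g hgK hgA
    by_contra hg1
    have h1 : g * r0 * g⁻¹ * r0⁻¹ ∈ R :=
      R.mul_mem ((Subgroup.mem_normalizer_iff.1 hgK r0).1 hr0) (R.inv_mem hr0)
    have h2 : g * r0 * g⁻¹ * r0⁻¹ ∈ A := by
      rw [show g * r0 * g⁻¹ * r0⁻¹ = g * (r0 * g⁻¹ * r0⁻¹) by group]
      exact A.mul_mem hgA (d.conjA r0 (A.inv_mem hgA))
    have h3 : g * r0 * g⁻¹ * r0⁻¹ = 1 := by
      by_contra h3
      exact hRA _ h1 (by rw [d.orderOf_eq h2 h3])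
    exact hr01 (d.free hgA hg1 (hRA r0 hr0) (mul_inv_eq_iff_eq_mul.1 (mul_inv_eq_one.1 h3)).symm)
  have hinj : Function.Injective (f.comp K.subtype) := by
    rw [injective_iff_map_eq_one]
    intro g hg
    exact Subtype.ext (hKA g g.2 (hker g hg))
  have hK6 : Nat.card K ∣ 6 := hP6 ▸ Subgroup.card_dvd_of_injective _ hinj
  have hxK : x ∈ K := Subgroup.mem_normalizer_iff.2 fun r => ⟨hnorm r, fun h => by
    have := hnorm _ h
    have hxx : x⁻¹ = x := Involution.inv_eq_self (Involution.mul_self_eq_one hx)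
    convert this using 1
    rw [hxx]
    simp only [← mul_assoc, Involution.mul_self_eq_one hx, one_mul]
    simp only [mul_assoc, Involution.mul_self_eq_one hx, mul_one]⟩
  have h2K : 2 ∣ Nat.card K := hx ▸ K.orderOf_dvd_natCard hxK
  have htK : t ∣ Nat.card K := (dvd_orderOf_of_ne_one ht hR hr0 hr01).trans
    (K.orderOf_dvd_natCard (Subgroup.le_normalizer hr0))
  have ht3 : t = 3 := by
    have h6 : t ∣ 2 * 3 := htK.trans hK6
    rcases (Nat.Prime.dvd_mul ht).1 h6 with h | h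
    · exact absurd ((Nat.prime_dvd_prime_iff_eq ht Nat.prime_two).1 h) ht2
    · exact (Nat.prime_dvd_prime_iff_eq ht Nat.prime_three).1 h
  have hKeq : Nat.card K = 6 := by
    refine Nat.dvd_antisymm hK6 ?_
    exact Nat.Coprime.mul_dvd_of_dvd_of_dvd (show Nat.Coprime 2 3 by norm_num) h2K (ht3 ▸ htK)
  have h6i : A.index = 6 := by
    refine Nat.dvd_antisymm hidx ?_
    rw [← hKeq, ← hfker, Subgroup.index_ker]
    refine Subgroup.card_dvd_of_injective (f.rangeRestrict.comp K.subtype) ?_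
    intro a b hab
    exact hinj (congrArg Subtype.val hab)
  have hG24 : Nat.card G = 24 := by rw [hG, h6i]
  have hKi : K.index = 4 := by
    have := K.index_mul_card
    rw [hKeq, hG24] at this
    omega
  have hcore : K.normalCore = ⊥ := by
    rw [Subgroup.eq_bot_iff_forall]
    intro g hg
    refine hKA g (K.normalCore_le hg) ?_
    rw [← hCeq, Subgroup.mem_centralizer_iff]
    intro a ha
    have h1 : a * g * a⁻¹ * g⁻¹ = 1 := by
      refine hKA _ (K.normalCore_le (K.normalCore.mul_mem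
        ((Subgroup.normalCore_normal K).conj_mem g hg a) (K.normalCore.inv_mem hg))) ?_
      rw [show a * g * a⁻¹ * g⁻¹ = a * (g * a⁻¹ * g⁻¹) by group]
      exact A.mul_mem ha (d.conjA g (A.inv_mem ha))
    exact mul_inv_eq_iff_eq_mul.1 (mul_inv_eq_one.1 h1)
  let e : (G ⧸ K) ≃ Fin 4 := Finite.equivFinOfCardEq (by rw [← Subgroup.index_eq_card, hKi])
  let F : G →* Equiv.Perm (Fin 4) :=
    (e.permCongrHom.toMonoidHom).comp (MulAction.toPermHom G (G ⧸ K))
  have hF : Function.Bijective F := by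
    rw [Nat.bijective_iff_injective_and_card]
    refine ⟨e.permCongrHom.injective.comp ?_, ?_⟩
    · rw [← MonoidHom.ker_eq_bot_iff, ← Subgroup.normalCore_eq_ker, hcore]
    · rw [hG24, Nat.card_eq_fintype_card, Fintype.card_perm, Fintype.card_fin]
      rfl
  exact ⟨MulEquiv.ofBijective F hF⟩

/-- **An abelian normal subgroup and no normal part.** -/
theorem abelian_normal [Finite G] {P : Partn G} {A : Subgroup G} {p : ℕ} (d : AbData P A p) :
    FrobOrHughes G ∨ Nonempty (G ≃* Equiv.Perm (Fin 4)) := by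
  have hp := d.prime
  haveI := Fact.mk hp
  haveI := d.normal
  obtain ⟨a, ha, ha1⟩ := d.exists_ne
  by_cases hG : IsPGroup p G
  · left; right
    haveI : Nontrivial G := ⟨⟨a, 1, ha1⟩⟩
    haveI := hG.center_nontrivial
    obtain ⟨kc, hkc0, hkc⟩ := (hG.to_subgroup (Subgroup.center G)).nontrivial_iff_card.1
      inferInstance
    obtain ⟨c, hc⟩ := exists_prime_orderOf_dvd_card' (G := Subgroup.center G) p
      (by rw [hkc]; exact dvd_pow_self p hkc0.ne')
    rw [← Subgroup.orderOf_coe] at hc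
    have hc1 : (c : G) ≠ 1 := fun e => by rw [e, orderOf_one] at hc; exact hp.one_lt.ne hc
    refine ⟨p, hp, fun e => P.ne_top _ hc1 (eq_top_iff.2 (e ▸ (Subgroup.closure_le _).2 ?_))⟩
    intro g hg
    have hg1 : g ≠ 1 := fun e' => hg (by rw [e', one_pow])
    have := P.eq_of_orderOf_ne hg1 hc1 (Subgroup.mem_center_iff.1 c.2 g)
      (fun e' => hg (by rw [← hc, ← e', pow_orderOf_eq_one]))
    exact this ▸ P.mem g
  by_cases hN : NoNorm p G
  · left; left
    obtain ⟨T, hT, hTp, hTi⟩ := d.sylow_normal hN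
    haveI := hT
    obtain ⟨m, hm⟩ := IsPGroup.iff_card.1 hTp
    have hco : (Nat.card T).Coprime T.index := by
      rw [hm]; exact ((hp.coprime_iff_not_dvd).2 hTi).pow_left m
    obtain ⟨K, hK⟩ := Subgroup.exists_right_complement'_of_coprime hco
    have hKcard : Nat.card K = T.index := (hK.symm.index_eq_card).symm
    refine ⟨K, isFrobeniusComplement_of_free T K hK ?_ ?_ ?_⟩
    · intro e
      apply hTi
      rw [e, Subgroup.index_bot]
      exact (d.orderOf_eq ha ha1) ▸ orderOf_dvd_natCard a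
    · intro e
      apply hG
      have h1 : T.index = 1 := by rw [← hKcard, e, Subgroup.card_bot]
      rw [Subgroup.index_eq_one] at h1
      exact (h1 ▸ hTp).of_equiv Subgroup.topEquiv
    · intro k hk s hs hk1 hs1 hc
      obtain ⟨i, hi⟩ := orderOf_of_isPGroup hp hTp hs
      exact d.not_commute hi hs1 hk1
        (fun e => hTi (e.trans (hKcard ▸ K.orderOf_dvd_natCard hk))) hc.symm
  · right
    simp only [NoNorm] at hN
    push Not at hN
    obtain ⟨x, hx, t, ht, htp, R, hR, hnorm, hR1⟩ := hN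
    obtain ⟨hp2, -⟩ := d.card_four hx ht htp R hR hR1 hnorm
    subst hp2
    exact perm_four d hx ht htp R hR hR1 hnorm

end Cfsg.Agent.Lib.GroupPartition
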