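import Mathlib
import Cfsg.Prelude.Def_Solvable

/-!
# Partitions of groups: basic facts

A partition is replaced by the conjugation-invariant refinement `M : G → Subgroup G`
sending an element to the smallest part containing it.
-/

set_option autoImplicit false

open scoped Pointwise

namespace Cfsg.Agent.Lib.GroupPartition

/-- A conjugation-invariant nontrivial partition, given by the part of each element. -/
structure Partn (G : Type*) [Group G] where
  /-- The part of an element. -/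
  M : G → Subgroup G
  mem : ∀ x, x ∈ M x
  eq_of_mem : ∀ x y, x ≠ 1 → y ≠ 1 → y ∈ M x → M y = M x
  conj_mem : ∀ g x y, y ∈ M x → g * y * g⁻¹ ∈ M (g * x * g⁻¹)
  ne_top : ∀ x, x ≠ 1 → M x ≠ ⊤

/-- The conclusion "Frobenius group or proper Hughes subgroup". -/
def FrobOrHughes (G : Type*) [Group G] : Prop :=
  (∃ H : Subgroup G, Cfsg.IsFrobeniusComplement H) ∨
    ∃ p : ℕ, p.Prime ∧ Subgroup.closure {g : G | g ^ p ≠ 1} ≠ ⊤

variable {G : Type*} [Group G]

/-- Every nontrivial partition yields an invariant one. -/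
theorem exists_partn (S : Set (Subgroup G)) (hS2 : ∃ H ∈ S, ∃ K ∈ S, H ≠ K)
    (hS1 : ∀ H ∈ S, H ≠ ⊥) (hpart : ∀ g : G, g ≠ 1 → ∃! H : Subgroup G, H ∈ S ∧ g ∈ H) :
    Nonempty (Partn G) := by
  classical
  let m : G → Subgroup G := fun x => if h : x = 1 then ⊥ else (hpart x h).exists.choose
  have hm : ∀ x, x ≠ 1 → m x ∈ S ∧ x ∈ m x := by
    intro x hx
    simp only [m, dif_neg hx]
    exact (hpart x hx).exists.choose_spec
  have hmem : ∀ x, x ∈ m x := by
    intro x
    by_cases hx : x = 1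
    · subst hx; exact (m 1).one_mem
    · exact (hm x hx).2
  have heq : ∀ x y, x ≠ 1 → y ≠ 1 → y ∈ m x → m y = m x := fun x y hx hy h =>
    (hpart y hy).unique (hm y hy) ⟨(hm x hx).1, h⟩
  have htop : ∀ x, x ≠ 1 → m x ≠ ⊤ := by
    intro x hx htop
    obtain ⟨H, hH, K, hK, hne⟩ := hS2
    have key : ∀ L ∈ S, L = m x := by
      intro L hL
      obtain ⟨l, hlL, hl⟩ : ∃ l ∈ L, l ≠ 1 := by
        by_contra h
        push Not at h
        exact hS1 L hL ((Subgroup.eq_bot_iff_forall L).2 h)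
      exact (hpart l hl).unique ⟨hL, hlL⟩ ⟨(hm x hx).1, by rw [htop]; trivial⟩
    exact hne ((key H hH).trans (key K hK).symm)
  let N : G → Subgroup G := fun x => ⨅ g : G, (m (g⁻¹ * x * g)).map (MulAut.conj g).toMonoidHom
  have hN : ∀ x y, y ∈ N x ↔ ∀ g : G, g⁻¹ * y * g ∈ m (g⁻¹ * x * g) := by
    intro x y
    simp only [N, Subgroup.mem_iInf]
    refine forall_congr' fun g => ?_
    rw [Subgroup.mem_map_equiv, MulAut.conj_symm_apply]
  have hc : ∀ (g x : G), x ≠ 1 → g⁻¹ * x * g ≠ 1 := by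
    intro g x hx h
    apply hx
    calc x = g * (g⁻¹ * x * g) * g⁻¹ := by group
      _ = 1 := by rw [h]; group
  refine ⟨⟨N, fun x => (hN x x).2 fun g => hmem _, ?_, ?_, ?_⟩⟩
  · intro x y hx hy h
    have h' := (hN x y).1 h
    ext z
    rw [hN, hN]
    refine forall_congr' fun g => ?_
    rw [heq _ _ (hc g x hx) (hc g y hy) (h' g)]
  · intro g x y h
    have h' := (hN x y).1 h
    rw [hN]
    intro k
    have := h' (g⁻¹ * k)
    simp only [mul_inv_rev, inv_inv, mul_assoc] at this ⊢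
    exact this
  · intro x hx h
    apply htop x hx
    rw [eq_top_iff]
    intro y _
    have := (hN x y).1 (h ▸ Subgroup.mem_top y) 1
    simpa using this

namespace Partn

variable (P : Partn G)

theorem mem_conj_iff (g x y : G) : g * y * g⁻¹ ∈ P.M (g * x * g⁻¹) ↔ y ∈ P.M x := by
  refine ⟨fun h => ?_, P.conj_mem g x y⟩
  have := P.conj_mem g⁻¹ _ _ h
  simp only [inv_inv] at this
  convert this using 2 <;> group

theorem eq_pow {x : G} {k : ℕ} (h : x ^ k ≠ 1) : P.M (x ^ k) = P.M x := by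
  refine P.eq_of_mem _ _ ?_ h ((P.M x).pow_mem (P.mem x) k)
  rintro rfl
  exact h (one_pow k)

theorem eq_symm {x y : G} (hx : x ≠ 1) (hy : y ≠ 1) (h : P.M x = P.M y) : y ∈ P.M x :=
  h ▸ P.mem y

/-- Commuting elements in different parts have the same prime order. -/
theorem order_eq [Finite G] {x y : G} (hx : x ≠ 1) (hy : y ≠ 1) (hc : Commute x y)
    (hne : P.M x ≠ P.M y) : orderOf x = orderOf y ∧ (orderOf x).Prime := by
  have key : ∀ a b : G, a ≠ 1 → b ≠ 1 → Commute a b → P.M a ≠ P.M b →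
      orderOf b ∣ orderOf a := by
    intro a b ha hb hab hn
    apply orderOf_dvd_of_pow_eq_one
    by_contra h
    have h1 : (a * b) ^ orderOf a = b ^ orderOf a := by
      rw [hab.mul_pow, pow_orderOf_eq_one, one_mul]
    have hab1 : a * b ≠ 1 := fun e => h (by rw [← h1, e, one_pow])
    have e1 : P.M (b ^ orderOf a) = P.M (a * b) := by
      rw [← h1]; exact P.eq_pow (by rw [h1]; exact h)
    have e2 : P.M (a * b) = P.M b := e1.symm.trans (P.eq_pow h)
    have : a * b ∈ P.M b := e2 ▸ P.mem _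
    have ha' : a ∈ P.M b := by
      have := (P.M b).mul_mem this ((P.M b).inv_mem (P.mem b))
      rwa [mul_inv_cancel_right] at this
    exact hn (P.eq_of_mem b a hb ha ha')
  have heq : orderOf x = orderOf y :=
    Nat.dvd_antisymm (key y x hy hx hc.symm hne.symm) (key x y hx hy hc hne)
  refine ⟨heq, ?_⟩
  have h1 : orderOf x ≠ 1 := by simpa using hx
  obtain ⟨d, hd, hdd⟩ := Nat.exists_prime_and_dvd h1
  by_cases hdn : d = orderOf x
  · exact hdn ▸ hd
  · exfalso
    have hlt : d < orderOf x :=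
      lt_of_le_of_ne (Nat.le_of_dvd (orderOf_pos x) hdd) hdn
    have hxd : x ^ d ≠ 1 := pow_ne_one_of_lt_orderOf hd.ne_zero hlt
    have h2 := key (x ^ d) y hxd hy (hc.pow_left d) (by rwa [P.eq_pow hxd])
    rw [← heq, orderOf_pow_of_dvd hd.ne_zero hdd] at h2
    have h3 := Nat.le_of_dvd (Nat.div_pos hlt.le hd.pos) h2
    exact absurd (Nat.div_lt_self (orderOf_pos x) hd.one_lt) (by omega)

theorem eq_of_orderOf_ne [Finite G] {x y : G} (hx : x ≠ 1) (hy : y ≠ 1) (hc : Commute x y)
    (hne : orderOf x ≠ orderOf y) : P.M x = P.M y :=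
  by_contra fun h => hne (P.order_eq hx hy hc h).1

theorem conj_mem_of_commute {a x y : G} (hc : Commute a x) (hy : y ∈ P.M x) :
    a * y * a⁻¹ ∈ P.M x := by
  have := P.conj_mem a x y hy
  rwa [show a * x * a⁻¹ = x from mul_inv_eq_iff_eq_mul.2 hc] at this

theorem inf_eq_one {x y z : G} (hx : x ≠ 1) (hy : y ≠ 1) (hne : P.M x ≠ P.M y)
    (hzx : z ∈ P.M x) (hzy : z ∈ P.M y) : z = 1 := by
  by_contra hz
  exact hne ((P.eq_of_mem x z hx hz hzx).symm.trans (P.eq_of_mem y z hy hz hzy))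

/-- An element conjugating one element of a part into the part normalises the part. -/
theorem conj_eq_self {g x y : G} (hx : x ≠ 1) (hy : y ≠ 1) (hyx : y ∈ P.M x)
    (hg : g * y * g⁻¹ ∈ P.M x) {z : G} (hz : z ∈ P.M x) : g * z * g⁻¹ ∈ P.M x := by
  have e := P.eq_of_mem x y hx hy hyx
  have hgy : g * y * g⁻¹ ≠ 1 := fun h => hy (by
    calc y = g⁻¹ * (g * y * g⁻¹) * g := by group
      _ = 1 := by rw [h]; group)
  rw [← P.eq_of_mem x _ hx hgy hg]
  exact P.conj_mem g y z (e ▸ hz)

end Partn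

end Cfsg.Agent.Lib.GroupPartition
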