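import Cfsg.Agent.Lib.GroupPartition.AbelianNormal
import Cfsg.Agent.Lib.CyclicNorm64.Simple
import Cfsg.Agent.Lib.AlperinTame.Basic
import Cfsg.Agent.Lib.Perm.IndexTwo

/-!
# Involution centralisers leaving their part
-/

set_option autoImplicit false

namespace Cfsg.Agent.Lib.GroupPartition

open Cfsg.Agent.Lib.CyclicNorm64 (cent mem_cent)
open scoped commutatorElement

variable {G : Type*} [Group G] [Finite G]

/-- An element lies in a subgroup containing its prime power parts. -/
theorem mem_of_parts (K : Subgroup G) (n : G)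
    (h : ∀ r : ℕ, r.Prime → r ∣ orderOf n →
      n ^ (orderOf n / r ^ (orderOf n).factorization r) ∈ K) : n ∈ K := by
  have hdvd : orderOf n ∣ Nat.card ↥(K ⊓ Subgroup.zpowers n) := by
    rw [Nat.dvd_iff_prime_pow_dvd_dvd]
    intro r k hr hk
    rcases Nat.eq_zero_or_pos k with rfl | hk0
    · simp
    have hr1 : r ∣ orderOf n := (dvd_pow_self r hk0.ne').trans hk
    have hmem : n ^ (orderOf n / r ^ (orderOf n).factorization r) ∈ K ⊓ Subgroup.zpowers n :=
      ⟨h r hr hr1, Subgroup.npow_mem_zpowers n _⟩
    have ho : orderOf (n ^ (orderOf n / r ^ (orderOf n).factorization r)) =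
        r ^ (orderOf n).factorization r := by
      rw [orderOf_pow_of_dvd (Nat.ordCompl_pos r (orderOf_pos n).ne').ne' (Nat.ordCompl_dvd _ r),
        Nat.div_div_self (Nat.ordProj_dvd _ r) (orderOf_pos n).ne']
    refine dvd_trans ?_ (ho ▸ (K ⊓ Subgroup.zpowers n).orderOf_dvd_natCard hmem)
    exact Nat.pow_dvd_pow r ((hr.pow_dvd_iff_le_factorization (orderOf_pos n).ne').1 hk)
  have heq : K ⊓ Subgroup.zpowers n = Subgroup.zpowers n :=
    Subgroup.eq_of_le_of_card_ge inf_le_right
      (by rw [Nat.card_zpowers]; exact Nat.le_of_dvd Nat.card_pos hdvd)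
  have h1 : n ∈ K ⊓ Subgroup.zpowers n := by rw [heq]; exact Subgroup.mem_zpowers n
  exact h1.1

/-- A subgroup of index two criterion inside a perfect normal subgroup. -/
theorem index_ne_two_of_minimal (hss : ∀ N : Subgroup G, N.Normal → Group.IsSolvable ↥N → N = ⊥)
    (N : Subgroup G) [N.Normal] (hN : N ≠ ⊥)
    (hmin : ∀ K : Subgroup G, K.Normal → K ≤ N → K = ⊥ ∨ K = N) (K : Subgroup N) :
    K.index ≠ 2 := by
  intro h2
  haveI := Subgroup.normal_of_index_eq_two h2
  have hcomm : ⁅N, N⁆ = N := by
    refine (hmin _ inferInstance (Subgroup.commutator_le_left N N)).resolve_left fun e => hN ?_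
    refine hss N inferInstance (Group.isSolvable_of_comm fun a b => ?_)
    have := Subgroup.commutator_mem_commutator a.2 b.2
    rw [e, Subgroup.mem_bot, commutatorElement_eq_one_iff_commute] at this
    exact Subtype.ext this
  have hle : ⁅N, N⁆ ≤ K.map N.subtype := by
    rw [Subgroup.commutator_le]
    intro a ha b hb
    refine ⟨⁅(⟨a, ha⟩ : N), ⟨b, hb⟩⁆, ?_, by simp [commutatorElement_def]⟩
    rw [SetLike.mem_coe, commutatorElement_def]
    have key : ∀ x y : N, x * y ∈ K ↔ (x ∈ K ↔ y ∈ K) := fun x y =>
      Subgroup.mul_mem_iff_of_index_two h2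
    rw [key, key, key, inv_mem_iff, inv_mem_iff]
    tauto
  rw [hcomm] at hle
  have hK : K = ⊤ := by
    rw [eq_top_iff]
    intro x _
    obtain ⟨y, hy, e⟩ := hle x.2
    exact Subtype.ext e ▸ hy
  rw [hK, Subgroup.index_top] at h2
  omega

namespace Invol

variable (P : Partn G)

theorem sq_of_out {t x : G} (ht : orderOf t = 2) (hc : Commute x t) (hx : x ∉ P.M t) :
    x * x = 1 := by
  have hx1 : x ≠ 1 := fun e => hx (e ▸ (P.M t).one_mem)
  have ho := (P.order_eq hx1 (Involution.ne_one ht) hc (fun e => hx (e ▸ P.mem x))).1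
  rw [ht] at ho
  exact Involution.mul_self_eq_one ho

/-- The configuration: the centraliser of `t` leaves the part and is not elementary. -/
structure Cfg (t s c : G) : Prop where
  inv : orderOf t = 2
  cs : Commute s t
  out : s ∉ P.M t
  cc : Commute c t
  nonel : c * c ≠ 1

variable {P} {t s c : G} (k : Cfg P t s c)
include k

theorem Cfg.c_mem : c ∈ P.M t :=
  by_contra fun h => k.nonel (sq_of_out P k.inv k.cc h)

theorem Cfg.inverts {x a : G} (hx : Commute x t) (hxM : x ∉ P.M t) (ha : Commute a t)
    (haM : a ∈ P.M t) : x * a * x⁻¹ = a⁻¹ := by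
  have hxa : x * a ∉ P.M t := fun e => hxM (by simpa using (P.M t).mul_mem e ((P.M t).inv_mem haM))
  have h1 := sq_of_out P k.inv (hx.mul_left ha) hxa
  rw [Involution.inv_eq_self (sq_of_out P k.inv hx hxM)]
  rw [← mul_assoc] at h1
  exact eq_inv_of_mul_eq_one_left h1

theorem Cfg.comm {a b : G} (ha : Commute a t) (haM : a ∈ P.M t) (hb : Commute b t)
    (hbM : b ∈ P.M t) : a * b = b * a := by
  have h1 := k.inverts k.cs k.out (ha.mul_left hb) ((P.M t).mul_mem haM hbM)
  have h2 : s * (a * b) * s⁻¹ = a⁻¹ * b⁻¹ := by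
    rw [← k.inverts k.cs k.out ha haM, ← k.inverts k.cs k.out hb hbM]; group
  rw [h2, mul_inv_rev] at h1
  calc a * b = (b⁻¹ * a⁻¹)⁻¹ := by group
    _ = (a⁻¹ * b⁻¹)⁻¹ := by rw [h1]
    _ = b * a := by group

theorem Cfg.mul_mem {x y : G} (hx : Commute x t) (hxM : x ∉ P.M t) (hy : Commute y t)
    (hyM : y ∉ P.M t) : x * y ∈ P.M t := by
  by_contra hxy
  have hcM := k.c_mem
  have h1 := k.inverts (hx.mul_left hy) hxy k.cc hcM
  have h2 : x * y * c * (x * y)⁻¹ = c := by
    calc x * y * c * (x * y)⁻¹ = x * (y * c * y⁻¹) * x⁻¹ := by group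
      _ = (x * c * x⁻¹)⁻¹ := by rw [k.inverts hy hyM k.cc hcM]; group
      _ = c := by rw [k.inverts hx hxM k.cc hcM, inv_inv]
  rw [h2] at h1
  exact k.nonel (by nth_rewrite 1 [h1]; exact inv_mul_cancel c)

/-- For an involution `u` in `C(t) ∩ M`, the centraliser is that of `t`. -/
theorem Cfg.cent_eq {u : G} (hu : orderOf u = 2) (huC : Commute u t) (huM : u ∈ P.M t) :
    ∀ x, Commute x u ↔ Commute x t := by
  have hu1 := Involution.ne_one hu
  have hMu : P.M u = P.M t := P.eq_of_mem t u (Involution.ne_one k.inv) hu1 huM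
  have hsu : Commute s u := by
    apply mul_inv_eq_iff_eq_mul.1
    rw [k.inverts k.cs k.out huC huM, Involution.inv_eq_self (Involution.mul_self_eq_one hu)]
  have hcu : Commute c u := k.comm k.cc k.c_mem huC huM
  have k' : Cfg P u s c := ⟨hu, hsu, hMu ▸ k.out, hcu, k.nonel⟩
  intro x
  constructor
  · intro hx
    by_cases hxM : x ∈ P.M u
    · exact k'.comm hx hxM huC.symm (hMu ▸ P.mem t)
    · apply mul_inv_eq_iff_eq_mul.1
      rw [k'.inverts hx hxM huC.symm (hMu ▸ P.mem t),
        Involution.inv_eq_self (Involution.mul_self_eq_one k.inv)]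
  · intro hx
    by_cases hxM : x ∈ P.M t
    · exact k.comm hx hxM huC huM
    · apply mul_inv_eq_iff_eq_mul.1
      rw [k.inverts hx hxM huC huM, Involution.inv_eq_self (Involution.mul_self_eq_one hu)]

/-- If `C(t) ∩ M` has a second involution, the centralisers of outer involutions are small. -/
theorem Cfg.outer {u x : G} (hu : orderOf u = 2) (huC : Commute u t) (huM : u ∈ P.M t)
    (hut : u ≠ t) (hx : Commute x t) (hxM : x ∉ P.M t) :
    ∀ y, Commute y x → y * y = 1 ∧ Commute y t := by
  have hxx := sq_of_out P k.inv hx hxM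
  have hx2 : orderOf x = 2 :=
    Involution.orderOf_eq_two hxx fun e => hxM (e ▸ (P.M t).one_mem)
  have hxu : Commute x u := by
    apply mul_inv_eq_iff_eq_mul.1
    rw [k.inverts hx hxM huC huM, Involution.inv_eq_self (Involution.mul_self_eq_one hu)]
  have hout : ∀ a, a ∈ P.M t → a ≠ 1 → a ∉ P.M x := by
    intro a ha ha1 hax
    have e1 := P.eq_of_mem t a (Involution.ne_one k.inv) ha1 ha
    have e2 := P.eq_of_mem x a (Involution.ne_one hx2) ha1 hax
    exact hxM (e1 ▸ e2 ▸ P.mem x)
  have hall : ∀ y, Commute y x → y * y = 1 := by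
    intro y hy
    by_contra hy2
    have k' : Cfg P x t y :=
      ⟨hx2, hx.symm, hout t (P.mem t) (Involution.ne_one k.inv), hy, hy2⟩
    have h := k'.mul_mem hx.symm (hout t (P.mem t) (Involution.ne_one k.inv)) hxu.symm
      (hout u huM (Involution.ne_one hu))
    refine hout _ ((P.M t).mul_mem (P.mem t) huM) ?_ h
    intro e
    exact hut (by
      rw [mul_eq_one_iff_inv_eq, Involution.inv_eq_self (Involution.mul_self_eq_one k.inv)] at e
      exact e.symm)
  intro y hy
  refine ⟨hall y hy, ?_⟩
  have h1 := hall (y * t) (hy.mul_left hx.symm)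
  have h2 : y * t = (y * t)⁻¹ := (Involution.inv_eq_self h1).symm
  rw [mul_inv_rev, Involution.inv_eq_self (Involution.mul_self_eq_one k.inv),
    Involution.inv_eq_self (hall y hy)] at h2
  exact h2

/-- `C(t) ∩ M` has only one involution. -/
theorem Cfg.unique_invol (hss : ∀ N : Subgroup G, N.Normal → Group.IsSolvable ↥N → N = ⊥) {u : G}
    (hu : orderOf u = 2) (huC : Commute u t) (huM : u ∈ P.M t) : u = t := by
  classical
  by_contra hut
  haveI : Fact (Nat.Prime 2) := ⟨Nat.prime_two⟩
  have ht2 := Involution.mul_self_eq_one k.inv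
  -- centralisers of outer involutions
  have houter : ∀ x, Commute x t → x ∉ P.M t →
      Nat.card (cent x) < Nat.card (cent t) ∧ cent x ≤ cent t ∧ IsPGroup 2 (cent x) := by
    intro x hx hxM
    have h := k.outer hu huC huM hut hx hxM
    have hle : cent x ≤ cent t := fun y hy => mem_cent.2 (h y (mem_cent.1 hy)).2
    refine ⟨?_, hle, fun y => ⟨1, Subtype.ext ?_⟩⟩
    · refine lt_of_le_of_ne (Subgroup.card_le_of_le hle) fun e => ?_
      have e' := Subgroup.eq_of_le_of_card_ge hle e.ge
      have : c ∈ cent x := e' ▸ mem_cent.2 k.cc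
      exact k.nonel (h c (mem_cent.1 this)).1
    · rw [pow_one, pow_two, Subgroup.coe_mul, Subgroup.coe_one]
      exact (h y (mem_cent.1 y.2)).1
  -- a Sylow subgroup inside `C(t)` containing `s`
  obtain ⟨W, hW⟩ := (houter s k.cs k.out).2.2.exists_le_sylow
  have hsW : s ∈ (W : Subgroup G) := hW (mem_cent.2 (Commute.refl s))
  have hWC : (W : Subgroup G) ≤ cent t := by
    haveI : Nontrivial (W : Subgroup G) := ⟨⟨⟨s, hsW⟩, 1, fun e =>
      k.out (by rw [show s = 1 from congrArg Subtype.val e]; exact (P.M t).one_mem)⟩⟩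
    haveI := W.2.center_nontrivial
    obtain ⟨kc, hkc0, hkc⟩ :=
      (W.2.to_subgroup (Subgroup.center (W : Subgroup G))).nontrivial_iff_card.1 inferInstance
    obtain ⟨z, hz⟩ := exists_prime_orderOf_dvd_card' (G := Subgroup.center (W : Subgroup G)) 2
      (by rw [hkc]; exact dvd_pow_self 2 hkc0.ne')
    rw [← Subgroup.orderOf_coe, ← Subgroup.orderOf_coe] at hz
    have hzc : ∀ w ∈ (W : Subgroup G), Commute w ((z : (W : Subgroup G)) : G) := fun w hw =>
      congrArg Subtype.val (Subgroup.mem_center_iff.1 z.2 ⟨w, hw⟩)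
    have hzt : Commute ((z : (W : Subgroup G)) : G) t :=
      mem_cent.1 ((houter s k.cs k.out).2.1 (mem_cent.2 (hzc s hsW).symm))
    intro w hw
    apply mem_cent.2
    by_cases hzM : ((z : (W : Subgroup G)) : G) ∈ P.M t
    · exact (k.cent_eq hz hzt hzM w).1 (hzc w hw)
    · exact mem_cent.1 ((houter _ hzt hzM).2.1 (mem_cent.2 (hzc w hw)))
  -- a minimal normal subgroup
  haveI : Nontrivial G := ⟨⟨t, 1, Involution.ne_one k.inv⟩⟩
  obtain ⟨N, hN, hNne, -, hmin⟩ :=
    MinimalNormal.exists_minimal_normal_le (G := G) Subgroup.normal_top top_ne_bot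
  haveI := hN
  have hno := index_ne_two_of_minimal hss N hNne hmin
  have hev : Even (Nat.card N) := by
    by_contra hodd
    exact hNne (hss N hN (S0205.result (Nat.not_even_iff_odd.1 hodd)))
  let U : Subgroup G := (W : Subgroup G) ⊓ N
  have hU : IsPGroup 2 U := W.2.to_le inf_le_left
  have hUi : ¬ 2 ∣ U.relIndex N := by
    refine AlperinTame.not_dvd_relIndex_of_max inf_le_right hU fun K hKN hK => ?_
    obtain ⟨g, -, hg⟩ := CyclicNorm64.exists_conj_le_sylow W le_top le_top hK
    rw [← Subgroup.card_map_of_injective (K := K) (f := (MulAut.conj g).toMonoidHom) (MulAut.conj g).injective]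
    refine Subgroup.card_le_of_le ?_
    rintro _ ⟨a, ha, rfl⟩
    exact ⟨hg a ha, hN.conj_mem a (hKN ha) g⟩
  let SN : Sylow 2 N := (hU.comap_subtype (K := N)).toSylow hUi
  have hSN : (SN : Subgroup N) = U.subgroupOf N := rfl
  by_cases hout : ∃ x ∈ U, x ∉ P.M t
  · obtain ⟨x, hxU, hxM⟩ := hout
    have hxC : Commute x t := mem_cent.1 (hWC hxU.1)
    have hx2 : orderOf x = 2 := Involution.orderOf_eq_two (sq_of_out P k.inv hxC hxM)
      fun e => hxM (e ▸ (P.M t).one_mem)
    let Q : Subgroup N := (U ⊓ P.M t).subgroupOf N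
    have hQ : Q ≤ (SN : Subgroup N) := fun a ha => by
      rw [hSN]; exact ha.1
    have hQi : Q.relIndex (SN : Subgroup N) = 2 := by
      rw [Subgroup.relIndex, Subgroup.index_eq_two_iff]
      refine ⟨⟨⟨x, hxU.2⟩, hxU⟩, fun b => ?_⟩
      have hbU : ((b : N) : G) ∈ U := b.2
      have hbC : Commute ((b : N) : G) t := mem_cent.1 (hWC hbU.1)
      by_cases hbM : ((b : N) : G) ∈ P.M t
      · refine Or.inr ⟨⟨hbU, hbM⟩, fun h => hxM ?_⟩
        have h' : ((b : N) : G) * x ∈ P.M t := h.2
        simpa using (P.M t).mul_mem ((P.M t).inv_mem hbM) h'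
      · exact Or.inl ⟨⟨U.mul_mem hbU hxU, k.mul_mem hbC hbM hxC hxM⟩, fun h => hbM h.2⟩
    obtain ⟨g, hg⟩ := Involution.exists_conj_mem_of_no_index_two hno SN Q hQ hQi
      (⟨x, hxU.2⟩ : N) (by rw [Subgroup.orderOf_mk]; exact hx2)
    have hgU : (g : G) * x * (g : G)⁻¹ ∈ U ⊓ P.M t := hg
    have hgC : Commute ((g : G) * x * (g : G)⁻¹) t := mem_cent.1 (hWC hgU.1.1)
    have hcent := k.cent_eq (by rw [Involution.orderOf_conj_eq, hx2]) hgC hgU.2
    have hle : Nat.card (cent t) ≤ Nat.card (cent x) := by
      rw [← Subgroup.card_map_of_injective (K := cent t) (f := (MulAut.conj (g : G)⁻¹).toMonoidHom)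
        (MulAut.conj (g : G)⁻¹).injective]
      refine Subgroup.card_le_of_le ?_
      rintro _ ⟨a, ha, rfl⟩
      refine mem_cent.2 ?_
      have h := ((hcent a).2 (mem_cent.1 ha)).map (MulAut.conj (g : G)⁻¹).toMonoidHom
      simp [mul_assoc] at h ⊢
      exact h
    exact absurd (houter x hxC hxM).1 (not_lt.2 hle)
  · push Not at hout
    have hUab : ∀ a ∈ U, ∀ b ∈ U, a * b = b * a := fun a ha b hb =>
      k.comm (mem_cent.1 (hWC ha.1)) (hout a ha) (mem_cent.1 (hWC hb.1)) (hout b hb)
    -- normalising elements centralise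
    have hcen : ∀ n ∈ N, (∀ a ∈ U, n * a * n⁻¹ ∈ U) → ∀ a ∈ U, Commute n a := by
      intro n hn hnU
      let K : Subgroup G := Subgroup.centralizer (U : Set G)
      suffices hnK : n ∈ K from fun a ha => (Subgroup.mem_centralizer_iff.1 hnK a ha).symm
      refine mem_of_parts K n fun r hr hrn => ?_
      obtain ⟨g, hgdef⟩ : ∃ g, g = n ^ (orderOf n / r ^ (orderOf n).factorization r) := ⟨_, rfl⟩
      rw [← hgdef]
      haveI := Fact.mk hr
      have hgN : g ∈ N := hgdef ▸ N.pow_mem hn _
      have hgU : ∀ a ∈ U, g * a * g⁻¹ ∈ U := by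
        rw [hgdef]
        generalize orderOf n / r ^ (orderOf n).factorization r = j
        induction j with
        | zero => intro a ha; simpa using ha
        | succ j ih =>
          intro a ha
          have := hnU _ (ih a ha)
          convert this using 1
          rw [pow_succ']
          group
      have hgo : orderOf g = r ^ (orderOf n).factorization r := by
        rw [hgdef, orderOf_pow_of_dvd (Nat.ordCompl_pos r (orderOf_pos n).ne').ne'
          (Nat.ordCompl_dvd _ r), Nat.div_div_self (Nat.ordProj_dvd _ r) (orderOf_pos n).ne']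
      have hUne : ∃ u0 ∈ U, orderOf u0 = 2 := by
        obtain ⟨u0, hu0⟩ := exists_prime_orderOf_dvd_card' (G := (SN : Subgroup N)) 2
          (SN.dvd_card_of_dvd_card (even_iff_two_dvd.1 hev))
        rw [← Subgroup.orderOf_coe, ← Subgroup.orderOf_coe] at hu0
        exact ⟨_, u0.2, hu0⟩
      rcases eq_or_ne r 2 with rfl | hr2
      · -- a `2`-element lies in the Sylow subgroup
        have hgmem : g ∈ U := by
          have hz : IsPGroup 2 (Subgroup.zpowers g) :=
            IsPGroup.of_card (n := (orderOf n).factorization 2) (by rw [Nat.card_zpowers, hgo])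
          have hnorm : Subgroup.zpowers g ≤ Subgroup.normalizer (U : Set G) := by
            rw [Subgroup.zpowers_le, Subgroup.mem_normalizer_iff]
            intro a
            refine ⟨hgU a, fun h => ?_⟩
            have hinj : Function.Injective (fun a : U => (⟨g * a * g⁻¹, hgU a a.2⟩ : U)) :=
              fun a b hab => Subtype.ext (by simpa using congrArg Subtype.val hab)
            obtain ⟨b, hb⟩ := Finite.surjective_of_injective hinj ⟨_, h⟩
            have : (b : G) = a := by simpa using congrArg Subtype.val hb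
            exact this ▸ b.2
          have hsup := hU.to_sup_of_normal_left' hz hnorm
          have hle : (SN : Subgroup N) ≤ (U ⊔ Subgroup.zpowers g).subgroupOf N := by
            rw [hSN]; exact fun a ha => Subgroup.mem_sup_left (show (a : G) ∈ U from ha)
          have heq : (U ⊔ Subgroup.zpowers g).subgroupOf N = (SN : Subgroup N) :=
            SN.3 (hsup.comap_subtype (K := N)) hle
          have : (⟨g, hgN⟩ : N) ∈ (U ⊔ Subgroup.zpowers g).subgroupOf N :=
            Subgroup.mem_sup_right (Subgroup.mem_zpowers g)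
          rw [heq, hSN] at this
          exact this
        rw [Subgroup.mem_centralizer_iff]
        exact fun a ha => hUab a ha g hgmem
      · -- an element of odd prime power order
        have hodd : Odd (orderOf g) := hgo ▸ (hr.odd_of_ne_two hr2).pow
        obtain ⟨u0, hu0U, hu0⟩ := hUne
        have hu0' := hgU u0 hu0U
        have hu0C := mem_cent.1 (hWC hu0U.1)
        have hce1 := k.cent_eq hu0 hu0C (hout u0 hu0U)
        have hce2 := k.cent_eq (by rw [Involution.orderOf_conj_eq, hu0])
          (mem_cent.1 (hWC hu0'.1)) (hout _ hu0')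
        have hgC : ∀ a, Commute a t → Commute (g * a * g⁻¹) t := fun a ha => by
          rw [← hce2]
          have h := ((hce1 a).2 ha).map (MulAut.conj g).toMonoidHom
          simp [mul_assoc] at h ⊢
          exact h
        have hgM : ∀ z ∈ P.M t, g * z * g⁻¹ ∈ P.M t :=
          fun z hz => P.conj_eq_self (Involution.ne_one k.inv) (Involution.ne_one hu0)
            (hout u0 hu0U) (hout _ hu0') hz
        have hgt : g ∈ cent t := by
          obtain ⟨D, hDC, hDp, hDi, m, hm, hmD⟩ :=
            exists_frattini 2 (cent t) g fun a ha => mem_cent.2 (hgC a (mem_cent.1 ha))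
          have hmC := mem_cent.1 hm
          have hmM : ∀ z ∈ P.M t, m * z * m⁻¹ ∈ P.M t := fun z hz =>
            P.conj_mem_of_commute hmC hz
          -- some power of `m * g` acts on `D ∖ M`
          have hstep : ∀ j : ℕ, (∃ a ∈ cent t, (m * g) ^ j = a * g ^ j) ∧
              (∀ a ∈ D, (m * g) ^ j * a * ((m * g) ^ j)⁻¹ ∈ D) ∧
              ∀ z ∈ P.M t, (m * g) ^ j * z * ((m * g) ^ j)⁻¹ ∈ P.M t := by
            intro j
            induction j with
            | zero => exact ⟨⟨1, one_mem _, by simp⟩, fun a ha => by simpa using ha,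
                fun z hz => by simpa using hz⟩
            | succ j ih =>
              obtain ⟨⟨a, ha, e⟩, i2, i3⟩ := ih
              refine ⟨⟨m * (g * a * g⁻¹),
                (cent t).mul_mem hm (mem_cent.2 (hgC a (mem_cent.1 ha))), ?_⟩, ?_, ?_⟩
              · rw [pow_succ', e, pow_succ']; group
              · intro b hb
                have := hmD _ (i2 b hb)
                convert this using 1
                rw [pow_succ']; simp only [mul_inv_rev, mul_assoc]
              · intro z hz
                have := hmM _ (hgM _ (i3 z hz))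
                convert this using 1
                rw [pow_succ']; simp only [mul_inv_rev, mul_assoc]
          obtain ⟨e, he⟩ : ∃ e, e = (orderOf (m * g)).factorization r := ⟨_, rfl⟩
          obtain ⟨l, hl⟩ : ∃ l, l = orderOf (m * g) / r ^ e := ⟨_, rfl⟩
          have hlo : orderOf ((m * g) ^ l) = r ^ e := by
            rw [hl, he, orderOf_pow_of_dvd (Nat.ordCompl_pos r (orderOf_pos _).ne').ne'
              (Nat.ordCompl_dvd _ r), Nat.div_div_self (Nat.ordProj_dvd _ r) (orderOf_pos _).ne']
          have hlr : ¬ r ∣ l := by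
            rw [hl, he]; exact Nat.not_dvd_ordCompl hr (orderOf_pos _).ne'
          obtain ⟨⟨a, haC, hae⟩, hiD, hiM⟩ := hstep l
          obtain ⟨w, hwdef⟩ : ∃ w, w = (m * g) ^ l := ⟨_, rfl⟩
          rw [← hwdef] at hlo hae hiD hiM
          -- `D` meets `M` in a proper subgroup
          have hDM : ¬ D ≤ P.M t := by
            intro hle
            apply hDi
            have h2 : ((P.M t ⊓ cent t).subgroupOf (cent t)).index = 2 := by
              rw [Subgroup.index_eq_two_iff]
              refine ⟨⟨s, mem_cent.2 k.cs⟩, fun b => ?_⟩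
              by_cases hbM : (b : G) ∈ P.M t
              · refine Or.inr ⟨⟨hbM, b.2⟩, fun h => k.out ?_⟩
                have h' : (b : G) * s ∈ P.M t := h.1
                simpa using (P.M t).mul_mem ((P.M t).inv_mem hbM) h'
              · exact Or.inl ⟨⟨k.mul_mem (mem_cent.1 b.2) hbM k.cs k.out,
                  (cent t).mul_mem b.2 (mem_cent.2 k.cs)⟩, fun h => hbM h.1⟩
            rw [← h2]
            exact Subgroup.relIndex_dvd_of_le_left (cent t)
              (show D ≤ P.M t ⊓ cent t from le_inf hle hDC)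
          obtain ⟨x0, hx0D, hx0M⟩ := SetLike.not_le_iff_exists.1 hDM
          let X : Set G := {x | x ∈ D ∧ x ∉ P.M t}
          have hXinv : ∀ x ∈ X, ∀ v ∈ Subgroup.zpowers w, v * x * v⁻¹ ∈ X := by
            intro x hx v hv
            obtain ⟨i, rfl⟩ := (Submonoid.mem_powers_iff _ _).1
              ((mem_powers_iff_mem_zpowers).2 hv)
            induction i with
            | zero => simpa using hx
            | succ i ih =>
              have h1 := ih (Subgroup.npow_mem_zpowers w i)
              rw [show w ^ (i + 1) * x * (w ^ (i + 1))⁻¹ = w * (w ^ i * x * (w ^ i)⁻¹) * w⁻¹ by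
                rw [pow_succ']; group]
              refine ⟨hiD _ h1.1, fun h => h1.2 ?_⟩
              have hinj : Function.Injective
                  (fun a : P.M t => (⟨w * a * w⁻¹, hiM a a.2⟩ : P.M t)) :=
                fun a b hab => Subtype.ext (by simpa using congrArg Subtype.val hab)
              obtain ⟨b, hb⟩ := Finite.surjective_of_injective hinj ⟨_, h⟩
              have : (b : G) = w ^ i * x * (w ^ i)⁻¹ := by simpa using congrArg Subtype.val hb
              exact this ▸ b.2
          letI : MulAction (Subgroup.zpowers w) X :=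
            { smul := fun v x => ⟨(v : G) * x * (v : G)⁻¹, hXinv _ x.2 _ v.2⟩
              one_smul := fun x => Subtype.ext (by
                show ((1 : Subgroup.zpowers w) : G) * (x : G) *
                  ((1 : Subgroup.zpowers w) : G)⁻¹ = x
                simp)
              mul_smul := fun v v' x => Subtype.ext (by
                show ((v * v' : Subgroup.zpowers w) : G) * (x : G) *
                  ((v * v' : Subgroup.zpowers w) : G)⁻¹ =
                  (v : G) * ((v' : G) * x * (v' : G)⁻¹) * (v : G)⁻¹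
                simp only [Subgroup.coe_mul]
                group) }
          have hXcard : Nat.card X = Nat.card ↥(D ⊓ P.M t) := by
            refine Nat.card_congr
              { toFun := fun x => ⟨x.1 * x0, D.mul_mem x.2.1 hx0D,
                  k.mul_mem (mem_cent.1 (hDC x.2.1)) x.2.2 (mem_cent.1 (hDC hx0D)) hx0M⟩
                invFun := fun a => ⟨a.1 * x0⁻¹, D.mul_mem a.2.1 (D.inv_mem hx0D), fun h => hx0M (by
                  have := (P.M t).mul_mem ((P.M t).inv_mem h) a.2.2
                  simpa using this)⟩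
                left_inv := fun x => by simp
                right_inv := fun a => by simp }
          have hwp : IsPGroup r (Subgroup.zpowers w) :=
            IsPGroup.of_card (n := e) (by rw [Nat.card_zpowers, hlo])
          have hnd : ¬ r ∣ Nat.card X := by
            rw [hXcard]
            obtain ⟨j, hj⟩ :=
              IsPGroup.iff_card.1 (hDp.to_le (inf_le_left : D ⊓ P.M t ≤ D))
            rw [hj]
            exact fun h => hr2 ((Nat.prime_dvd_prime_iff_eq hr Nat.prime_two).1
              (hr.dvd_of_dvd_pow h))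
          obtain ⟨⟨x, hxD, hxM⟩, hfix⟩ := hwp.nonempty_fixed_point_of_prime_not_dvd_card X hnd
          have hwx : w * x * w⁻¹ = x :=
            congrArg Subtype.val (hfix ⟨w, Subgroup.mem_zpowers w⟩)
          have hwt : w ∈ cent t := (houter x (mem_cent.1 (hDC hxD)) hxM).2.1
            (mem_cent.2 (mul_inv_eq_iff_eq_mul.1 hwx))
          have hgl : g ^ l ∈ cent t := by
            have := (cent t).mul_mem ((cent t).inv_mem haC) hwt
            rwa [hae, inv_mul_cancel_left] at this
          have hco : l.Coprime (orderOf g) := by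
            rw [hgo]
            exact (((hr.coprime_iff_not_dvd).2 hlr).symm).pow_right _
          obtain ⟨i, hi⟩ := exists_pow_eq_self_of_coprime hco
          exact hi ▸ (cent t).pow_mem hgl i
        have hgt' := mem_cent.1 hgt
        -- `g` centralises the involutions, hence all elements
        have hkey : ∀ (j : ℕ), ∀ a ∈ U, a ^ 2 ^ j = 1 → Commute g a := by
          intro j
          induction j with
          | zero =>
            intro a _ ha
            rw [pow_zero, pow_one] at ha
            rw [ha]; exact Commute.one_right g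
          | succ j ih =>
            intro a ha hj
            by_cases ha2 : a * a = 1
            · by_cases ha1 : a = 1
              · rw [ha1]; exact Commute.one_right g
              · exact (k.cent_eq (Involution.orderOf_eq_two ha2 ha1) (mem_cent.1 (hWC ha.1))
                  (hout a ha) g).2 hgt'
            have hsq : Commute g (a * a) := ih _ (U.mul_mem ha ha)
              (by rw [← pow_two, ← pow_mul, ← pow_succ']; exact hj)
            obtain ⟨v, hv⟩ : ∃ v, v = a⁻¹ * (g * a * g⁻¹) := ⟨_, rfl⟩
            have hvU : v ∈ U := hv ▸ U.mul_mem (U.inv_mem ha) (hgU a ha)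
            have hga : g * a * g⁻¹ = a * v := by rw [hv, mul_inv_cancel_left]
            have hv2 : v * v = 1 := by
              have h1 : g * (a * a) * g⁻¹ = a * a := mul_inv_eq_iff_eq_mul.2 hsq
              have h2 : g * (a * a) * g⁻¹ = (a * a) * (v * v) := by
                calc g * (a * a) * g⁻¹ = (g * a * g⁻¹) * (g * a * g⁻¹) := by group
                  _ = a * (v * a) * v := by rw [hga]; group
                  _ = a * (a * v) * v := by rw [hUab v hvU a ha]
                  _ = (a * a) * (v * v) := by group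
              rw [h1] at h2
              exact left_eq_mul.1 h2
            have hgv : Commute g v := by
              by_cases hv1 : v = 1
              · rw [hv1]; exact Commute.one_right g
              · exact (k.cent_eq (Involution.orderOf_eq_two hv2 hv1) (mem_cent.1 (hWC hvU.1))
                  (hout v hvU) g).2 hgt'
            have hpow : ∀ i : ℕ, g ^ i * a * (g ^ i)⁻¹ = a * v ^ i := by
              intro i
              induction i with
              | zero => simp
              | succ i ihi =>
                calc g ^ (i + 1) * a * (g ^ (i + 1))⁻¹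
                    = g * (g ^ i * a * (g ^ i)⁻¹) * g⁻¹ := by rw [pow_succ']; group
                  _ = (g * a * g⁻¹) * (g * v ^ i * g⁻¹) := by rw [ihi]; group
                  _ = a * v * v ^ i := by
                      rw [hga, mul_inv_eq_iff_eq_mul.2 (hgv.pow_right i).eq]
                  _ = a * v ^ (i + 1) := by rw [pow_succ', mul_assoc]
            have hvo := hpow (orderOf g)
            rw [pow_orderOf_eq_one, inv_one, mul_one, one_mul] at hvo
            have hvo' : v ^ orderOf g = 1 := left_eq_mul.1 hvo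
            obtain ⟨q, hq⟩ := hodd
            rw [hq, pow_succ, pow_mul, pow_two, hv2, one_pow, one_mul] at hvo'
            rw [hvo', mul_one] at hga
            exact mul_inv_eq_iff_eq_mul.1 hga
        rw [Subgroup.mem_centralizer_iff]
        intro a ha
        obtain ⟨j, hj⟩ := orderOf_of_isPGroup Nat.prime_two hU ha
        exact (hkey j a ha (by rw [← hj, pow_orderOf_eq_one])).symm
    have hBurn : Subgroup.normalizer ((SN : Subgroup N) : Set N) ≤
        Subgroup.centralizer ((SN : Subgroup N) : Set N) := by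
      intro n hn
      rw [Subgroup.mem_centralizer_iff]
      intro a ha
      have h := hcen n n.2 (fun b hb =>
        ((Subgroup.mem_normalizer_iff.1 hn) ⟨b, hb.2⟩).1 hb) (a : G) ha
      exact Subtype.ext h.symm.eq
    obtain ⟨K, hK⟩ := Perm.IndexTwo.exists_index_two_of_npc hev
      ⟨SN, _, (MonoidHom.transferSylow SN hBurn).normal_ker,
        MonoidHom.ker_transferSylow_isComplement' SN hBurn⟩
    exact hno K hK

/-- The part of `t` lies in the centraliser of `t`. -/
theorem Cfg.part_le (hss : ∀ N : Subgroup G, N.Normal → Group.IsSolvable ↥N → N = ⊥) :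
    ∀ x ∈ P.M t, Commute x t := by
  classical
  haveI : Fact (Nat.Prime 2) := ⟨Nat.prime_two⟩
  have ht1 := Involution.ne_one k.inv
  obtain ⟨W, hW⟩ := (IsPGroup.of_card (n := 1) (G := Subgroup.zpowers (⟨t, P.mem t⟩ : P.M t))
    (by rw [Nat.card_zpowers, Subgroup.orderOf_mk, k.inv, pow_one])).exists_le_sylow
  have htW : (⟨t, P.mem t⟩ : P.M t) ∈ (W : Subgroup (P.M t)) := hW (Subgroup.mem_zpowers _)
  have hWc : ∀ w ∈ (W : Subgroup (P.M t)), Commute (w : G) t := by
    haveI : Nontrivial (W : Subgroup (P.M t)) :=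
      ⟨⟨⟨_, htW⟩, 1, fun e => ht1 (congrArg (fun x : (W : Subgroup (P.M t)) => ((x : P.M t) : G)) e)⟩⟩
    haveI := W.2.center_nontrivial
    obtain ⟨kc, hkc0, hkc⟩ := (W.2.to_subgroup
      (Subgroup.center (W : Subgroup (P.M t)))).nontrivial_iff_card.1 inferInstance
    obtain ⟨z, hz⟩ := exists_prime_orderOf_dvd_card'
      (G := Subgroup.center (W : Subgroup (P.M t))) 2 (by rw [hkc]; exact dvd_pow_self 2 hkc0.ne')
    rw [← Subgroup.orderOf_coe, ← Subgroup.orderOf_coe, ← Subgroup.orderOf_coe] at hz
    have hzc : ∀ w ∈ (W : Subgroup (P.M t)),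
        Commute (w : G) (((z : (W : Subgroup (P.M t))) : P.M t) : G) := fun w hw =>
      congrArg (fun x : (W : Subgroup (P.M t)) => ((x : P.M t) : G))
        (Subgroup.mem_center_iff.1 z.2 ⟨w, hw⟩)
    have hzt : (((z : (W : Subgroup (P.M t))) : P.M t) : G) = t :=
      k.unique_invol hss hz (hzc _ htW).symm (z : (W : Subgroup (P.M t))).1.2
    intro w hw
    have := hzc w hw
    rwa [hzt] at this
  have hBurn : Subgroup.normalizer ((W : Subgroup (P.M t)) : Set (P.M t)) ≤
      Subgroup.centralizer ((W : Subgroup (P.M t)) : Set (P.M t)) := by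
    intro n hn
    have h1 := ((Subgroup.mem_normalizer_iff.1 hn) ⟨t, P.mem t⟩).1 htW
    have hne : (n : G) * t * (n : G)⁻¹ = t :=
      k.unique_invol hss (by rw [Involution.orderOf_conj_eq, k.inv]) (hWc _ h1)
        (n * ⟨t, P.mem t⟩ * n⁻¹ : P.M t).2
    have hnt : Commute (n : G) t := mul_inv_eq_iff_eq_mul.1 hne
    rw [Subgroup.mem_centralizer_iff]
    intro a ha
    exact Subtype.ext (k.comm (hWc a ha) a.2 hnt n.2)
  obtain ⟨T, hTdef⟩ : ∃ T, T = (MonoidHom.transferSylow W hBurn).ker := ⟨_, rfl⟩
  have hTc : T.IsComplement' (W : Subgroup (P.M t)) :=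
    hTdef ▸ MonoidHom.ker_transferSylow_isComplement' W hBurn
  haveI hTn : T.Normal := hTdef ▸ MonoidHom.normal_ker _
  have hTi : ¬ 2 ∣ Nat.card T := by
    rw [← hTc.index_eq_card]
    exact W.not_dvd_index
  have hTodd : ∀ a : P.M t, Odd (orderOf a) → a ∈ T := by
    intro a ha
    rw [← QuotientGroup.eq_one_iff, ← orderOf_eq_one_iff]
    have h1 := orderOf_map_dvd (QuotientGroup.mk' T) a
    have h2 := orderOf_dvd_natCard (a : (P.M t) ⧸ T)
    rw [← Subgroup.index_eq_card, hTc.symm.index_eq_card] at h2
    obtain ⟨j, hj⟩ := IsPGroup.iff_card.1 W.2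
    rw [hj] at h2
    exact Nat.eq_one_of_dvd_coprimes ((Nat.coprime_two_right.2 ha).pow_right j) h1 h2
  have hconjT : ∀ x, Commute x t → ∀ a : G, a ∈ T.map (P.M t).subtype →
      x * a * x⁻¹ ∈ T.map (P.M t).subtype := by
    rintro x hx _ ⟨a, ha, rfl⟩
    refine ⟨⟨x * a * x⁻¹, P.conj_mem_of_commute hx a.2⟩, hTodd _ ?_, rfl⟩
    rw [Subgroup.orderOf_mk, Involution.orderOf_conj_eq, Subgroup.orderOf_coe]
    exact (Nat.not_even_iff_odd.1 fun h =>
      hTi ((even_iff_two_dvd.1 h).trans (T.orderOf_dvd_natCard ha)))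
  have hfree : ∀ x, Commute x t → x ∉ P.M t → ∀ a ∈ T.map (P.M t).subtype,
      Commute x a → a = 1 := by
    rintro x hx hxM _ ⟨a, ha, rfl⟩ hc
    by_contra ha1
    have hxo : orderOf x = 2 := Involution.orderOf_eq_two (sq_of_out P k.inv hx hxM)
      fun e => hxM (e ▸ (P.M t).one_mem)
    have hao : orderOf x ≠ orderOf ((a : P.M t) : G) := by
      rw [hxo, Subgroup.orderOf_coe]
      exact fun e => hTi (e ▸ T.orderOf_dvd_natCard ha)
    have e1 := P.eq_of_orderOf_ne (Involution.ne_one hxo) ha1 hc hao
    exact hxM ((P.eq_of_mem t _ ht1 ha1 a.2) ▸ e1 ▸ P.mem x)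
  have hTt : ∀ a ∈ T.map (P.M t).subtype, Commute a t := by
    intro a ha
    have hst : Commute (s * t) t := k.cs.mul_left (Commute.refl t)
    have hstM : s * t ∉ P.M t := fun e =>
      k.out (by simpa using (P.M t).mul_mem e ((P.M t).inv_mem (P.mem t)))
    have e1 := inverts_of_free _ (hconjT s k.cs) (sq_of_out P k.inv k.cs k.out)
      (hfree s k.cs k.out) ha
    have e2 := inverts_of_free _ (hconjT _ hst) (sq_of_out P k.inv hst hstM) (hfree _ hst hstM) ha
    rw [← e1] at e2
    have e3 : t * a * t⁻¹ = a := by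
      have := congrArg (fun y => s⁻¹ * y * s) e2
      simp only [mul_inv_rev] at this
      group at this ⊢
      exact this
    exact (mul_inv_eq_iff_eq_mul.1 e3).symm
  intro x hx
  obtain ⟨⟨a, w⟩, hax, -⟩ := Subgroup.isComplement_iff_existsUnique.1 hTc ⟨x, hx⟩
  have e : x = ((a : P.M t) : G) * ((w : P.M t) : G) := (congrArg Subtype.val hax).symm
  rw [e]
  exact (hTt _ ⟨_, a.2, rfl⟩).mul_left (hWc _ w.2)

end Invol

end Cfsg.Agent.Lib.GroupPartition
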