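import Cfsg.Agent.Lib.GroupPartition.Tools
import Cfsg.Agent.S0071
import Cfsg.Agent.S0205

/-!
# A partition with a normal part
-/

set_option autoImplicit false

namespace Cfsg.Agent.Lib.GroupPartition

variable {G : Type*} [Group G] [Finite G]

/-- A `p`-subgroup fixes a nontrivial element of a normal subgroup of order divisible by `p`. -/
theorem exists_commute_of_pGroup {p : ℕ} [Fact p.Prime] (N : Subgroup G) [N.Normal]
    (hd : p ∣ Nat.card N) (E : Subgroup G) (hE : IsPGroup p E) :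
    ∃ h ∈ N, h ≠ 1 ∧ ∀ e ∈ E, Commute e h := by
  letI : MulAction E N :=
    MulAction.compHom N ((MulAut.conjNormal : G →* MulAut N).comp E.subtype)
  have h1 : (1 : N) ∈ MulAction.fixedPoints E N := by
    intro e
    show (MulAut.conjNormal (e : G)) (1 : N) = 1
    exact map_one _
  obtain ⟨b, hb, hne⟩ := hE.exists_fixed_point_of_prime_dvd_card_of_fixed_point N hd h1
  refine ⟨b, b.2, fun e => hne (Subtype.ext e.symm), fun e he => ?_⟩
  have h2 : MulAut.conjNormal e b = b := hb ⟨e, he⟩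
  have h3 := congrArg Subtype.val h2
  rw [MulAut.conjNormal_apply] at h3
  exact mul_inv_eq_iff_eq_mul.1 h3

/-- An involution acting without fixed points on a subgroup inverts it. -/
theorem inverts_of_free (H : Subgroup G) {x : G} (hn : ∀ h ∈ H, x * h * x⁻¹ ∈ H) (hx : x * x = 1)
    (hfree : ∀ h ∈ H, Commute x h → h = 1) {k : G} (hk : k ∈ H) : x * k * x⁻¹ = k⁻¹ := by
  have hmem : ∀ h ∈ H, h⁻¹ * (x * h * x⁻¹) ∈ H := fun h hh =>
    H.mul_mem (H.inv_mem hh) (hn h hh)
  let f : H → H := fun h => ⟨(h : G)⁻¹ * (x * h * x⁻¹), hmem h h.2⟩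
  have hf : Function.Injective f := by
    intro a b hab
    have hab' := congrArg Subtype.val hab
    simp only [f] at hab'
    have hc : Commute x ((b : G) * (a : G)⁻¹) := by
      apply mul_inv_eq_iff_eq_mul.1
      calc x * ((b : G) * (a : G)⁻¹) * x⁻¹ = (x * b * x⁻¹) * (x * a * x⁻¹)⁻¹ := by group
        _ = (b * ((b : G)⁻¹ * (x * b * x⁻¹))) * (a * ((a : G)⁻¹ * (x * a * x⁻¹)))⁻¹ := by group
        _ = (b : G) * (a : G)⁻¹ := by rw [hab']; group
    exact Subtype.ext (mul_inv_eq_one.1 (hfree _ (H.mul_mem b.2 (H.inv_mem a.2)) hc)).symm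
  obtain ⟨⟨h, hh⟩, hhk⟩ := Finite.surjective_of_injective hf ⟨k, hk⟩
  have e : h⁻¹ * (x * h * x⁻¹) = k := congrArg Subtype.val hhk
  rw [← e, Involution.inv_eq_self hx]
  calc x * (h⁻¹ * (x * h * x)) * x = x * h⁻¹ * x * h * (x * x) := by simp only [mul_assoc]
    _ = (h⁻¹ * (x * h * x))⁻¹ := by
      rw [hx, mul_one, mul_inv_rev, mul_inv_rev, mul_inv_rev, Involution.inv_eq_self hx, inv_inv]
      simp only [mul_assoc]

namespace NormalPart

variable (P : Partn G) {h0 : G} (hh0 : h0 ≠ 1) [hN : (P.M h0).Normal]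

include hh0

omit hN in
theorem M_eq {h : G} (hh : h ∈ P.M h0) (h1 : h ≠ 1) : P.M h = P.M h0 :=
  P.eq_of_mem _ _ hh0 h1 hh

omit hN in
theorem pow_out {x : G} (hx : x ∉ P.M h0) {k : ℕ} (hk : x ^ k ∈ P.M h0) : x ^ k = 1 := by
  by_contra h
  apply hx
  rw [← M_eq P hh0 hk h, P.eq_pow h]
  exact P.mem x

theorem orderOf_mk {x : G} (hx : x ∉ P.M h0) :
    orderOf (x : G ⧸ P.M h0) = orderOf x := by
  refine Nat.dvd_antisymm (orderOf_map_dvd (QuotientGroup.mk' (P.M h0)) x) ?_
  apply orderOf_dvd_of_pow_eq_one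
  refine pow_out P hh0 hx ?_
  rw [← QuotientGroup.eq_one_iff, QuotientGroup.mk_pow, pow_orderOf_eq_one]

theorem out_comm {x h : G} (hx : x ∉ P.M h0) (hh : h ∈ P.M h0) (h1 : h ≠ 1)
    (hc : Commute x h) :
    orderOf x = orderOf h ∧ (orderOf h).Prime ∧ ∀ y ∈ P.M x, y ^ orderOf h = 1 := by
  have hx1 : x ≠ 1 := fun e => hx (e ▸ (P.M h0).one_mem)
  have hne : P.M x ≠ P.M h0 := fun e => hx (e ▸ P.mem x)
  obtain ⟨ho, hp⟩ := P.order_eq hx1 h1 hc (by rwa [M_eq P hh0 hh h1])
  refine ⟨ho, ho ▸ hp, fun y hy => ?_⟩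
  by_cases hy1 : y = 1
  · rw [hy1, one_pow]
  · have hcy : h * y * h⁻¹ * y⁻¹ = 1 := by
      refine P.inf_eq_one hx1 hh0 hne ?_ ?_
      · exact (P.M x).mul_mem (P.conj_mem_of_commute hc.symm hy) ((P.M x).inv_mem hy)
      · rw [show h * y * h⁻¹ * y⁻¹ = h * (y * h⁻¹ * y⁻¹) by group]
        exact (P.M h0).mul_mem hh (hN.conj_mem _ ((P.M h0).inv_mem hh) _)
    have hcy' : Commute h y := mul_inv_eq_iff_eq_mul.1 (mul_inv_eq_one.1 hcy)
    have hyo := (P.order_eq hy1 h1 hcy'.symm
      (by rwa [M_eq P hh0 hh h1, P.eq_of_mem _ _ hx1 hy1 hy])).1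
    rw [← hyo, pow_orderOf_eq_one]

theorem pow_prime_eq_one {q : ℕ} (hq : q.Prime) (hqH : q ∣ Nat.card (P.M h0)) {g : G}
    (hg : g ∉ P.M h0) (hqg : q ∣ orderOf g) : g ^ q = 1 := by
  haveI := Fact.mk hq
  obtain ⟨k, hk⟩ := exists_pow_orderOf_eq hq hqg
  have hk1 : g ^ k ≠ 1 := fun e => by rw [e, orderOf_one] at hk; exact hq.one_lt.ne hk
  have hkH : g ^ k ∉ P.M h0 := fun e => hk1 (pow_out P hh0 hg e)
  obtain ⟨h, hh, h1, hc⟩ := exists_commute_of_pGroup (P.M h0) hqH (Subgroup.zpowers (g ^ k))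
    (IsPGroup.of_card (n := 1) (by rw [Nat.card_zpowers, hk, pow_one]))
  obtain ⟨ho, -, hexp⟩ := out_comm P hh0 hkH hh h1 (hc _ (Subgroup.mem_zpowers _))
  rw [← hk, ho]
  exact hexp g (P.eq_pow hk1 ▸ P.mem g)

/-- No element of prime order of the quotient normalises certain subgroups. -/
theorem not_normalises {r t s : ℕ} (hr : r.Prime) (ht : t.Prime) (hs : s.Prime) (htr : t ≠ r)
    (hdiv : t ∣ Nat.card (P.M h0) ∨ r ∣ Nat.card (P.M h0)) (hsH : s ∣ Nat.card (P.M h0))
    (hst : s ≠ t) {zb : G ⧸ P.M h0} (hzb : orderOf zb = r) (Db : Subgroup (G ⧸ P.M h0))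
    (hDb : IsPGroup t Db) (hnorm : ∀ d ∈ Db, zb * d * zb⁻¹ ∈ Db) : Db = ⊥ := by
  haveI := Fact.mk hs
  haveI := Fact.mk ht
  by_contra hne
  obtain ⟨T⟩ : Nonempty (Sylow s (P.M h0)) := inferInstance
  let T0 : Subgroup G := (T : Subgroup (P.M h0)).map (P.M h0).subtype
  let L : Subgroup G := Subgroup.normalizer (T0 : Set G)
  have hL : ∀ g : G, ∃ l ∈ L, ((l : G) : G ⧸ (P.M h0)) = g := by
    intro g
    have hg : g ∈ L ⊔ (P.M h0) := by
      rw [show L ⊔ (P.M h0) = ⊤ from Sylow.normalizer_sup_eq_top T]; trivial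
    obtain ⟨l, hl, h, hh, rfl⟩ := Subgroup.mem_sup_of_normal_right.1 hg
    refine ⟨l, hl, ?_⟩
    rw [QuotientGroup.eq]
    simpa [← mul_assoc] using hh
  obtain ⟨z0, hz0⟩ := QuotientGroup.mk_surjective zb
  obtain ⟨z, hzL, hz⟩ := hL z0
  rw [← hz0, ← hz] at hzb hnorm
  let N : Subgroup G := Db.comap (QuotientGroup.mk' (P.M h0)) ⊓ L
  obtain ⟨D, hDN, hDp, hidx, n, hn, hDn⟩ := exists_frattini t N z fun a ha =>
    ⟨by simpa using hnorm _ (show (a : G ⧸ (P.M h0)) ∈ Db from ha.1),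
      L.mul_mem (L.mul_mem hzL ha.2) (L.inv_mem hzL)⟩
  -- `D` is not inside `(P.M h0)`
  have hDH : ¬ D ≤ (P.M h0) := by
    intro hle
    apply hidx
    obtain ⟨d, hd, hd1⟩ : ∃ d ∈ Db, d ≠ 1 := by
      by_contra h'
      push Not at h'
      exact hne ((Subgroup.eq_bot_iff_forall _).2 h')
    obtain ⟨a0, rfl⟩ := QuotientGroup.mk_surjective d
    obtain ⟨a, haL, ha⟩ := hL a0
    rw [← ha] at hd hd1
    have haN : a ∈ N := ⟨hd, haL⟩
    let f : N →* G ⧸ (P.M h0) := (QuotientGroup.mk' (P.M h0)).comp N.subtype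
    have hker : f.ker = (P.M h0).subgroupOf N := by
      rw [← MonoidHom.comap_ker, QuotientGroup.ker_mk']; rfl
    have h1 : t ∣ (P.M h0).relIndex N := by
      rw [Subgroup.relIndex, ← hker, Subgroup.index_ker]
      exact (dvd_orderOf_of_ne_one ht hDb hd hd1).trans
        (f.range.orderOf_dvd_natCard ⟨⟨a, haN⟩, rfl⟩)
    exact h1.trans (Subgroup.relIndex_dvd_of_le_left N hle)
  -- the image of `n * z` has order divisible by `r`
  have hpow : ∀ k : ℕ, ∃ d ∈ Db, ((n * z : G) : G ⧸ (P.M h0)) ^ k = d * (z : G ⧸ (P.M h0)) ^ k := by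
    intro k
    induction k with
    | zero => exact ⟨1, Db.one_mem, by simp⟩
    | succ k ih =>
      obtain ⟨d, hd, e⟩ := ih
      refine ⟨(n : G ⧸ (P.M h0)) * ((z : G ⧸ (P.M h0)) * d * (z : G ⧸ (P.M h0))⁻¹), Db.mul_mem hn.1 (hnorm d hd), ?_⟩
      rw [pow_succ', e, pow_succ', QuotientGroup.mk_mul]
      group
  have hnzH : n * z ∉ (P.M h0) := by
    intro hmem
    have e0 : (n : G ⧸ (P.M h0)) * z = 1 := by
      rw [← QuotientGroup.mk_mul, QuotientGroup.eq_one_iff]; exact hmem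
    have hzD : (z : G ⧸ (P.M h0)) ∈ Db := by
      rw [eq_inv_of_mul_eq_one_right e0]; exact Db.inv_mem hn.1
    exact htr (eq_of_dvd_orderOf ht hr hDb hzD (by rw [hzb])).symm
  have hro : r ∣ orderOf (n * z) := by
    obtain ⟨d, hd, e⟩ := hpow (orderOf (n * z))
    rw [← QuotientGroup.mk_pow, pow_orderOf_eq_one, QuotientGroup.mk_one, eq_comm,
      mul_eq_one_iff_eq_inv] at e
    rw [← hzb]
    apply orderOf_dvd_of_pow_eq_one
    by_contra hne1
    have hmem : (z : G ⧸ (P.M h0)) ^ orderOf (n * z) ∈ Db := by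
      have := Db.inv_mem hd; rw [e, inv_inv] at this; exact this
    have h2 := (dvd_orderOf_of_ne_one ht hDb hmem hne1).trans (orderOf_pow_dvd _)
    rw [hzb] at h2
    exact htr ((Nat.prime_dvd_prime_iff_eq ht hr).1 h2)
  obtain ⟨k, hk⟩ := exists_pow_orderOf_eq hr hro
  have hw1 : (n * z) ^ k ≠ 1 := fun e => by rw [e, orderOf_one] at hk; exact hr.one_lt.ne hk
  have hwH : (n * z) ^ k ∉ (P.M h0) := fun e => hw1 (pow_out P hh0 hnzH e)
  have hwD : ∀ d ∈ D, (n * z) ^ k * d * ((n * z) ^ k)⁻¹ ∈ D := by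
    clear hk hw1 hwH
    induction k with
    | zero => intro d hd; simpa using hd
    | succ k ih =>
      intro d hd
      have := hDn _ (ih d hd)
      convert this using 1
      rw [pow_succ']
      simp only [mul_inv_rev, mul_assoc]
  have hwL : (n * z) ^ k ∈ L := L.pow_mem (L.mul_mem hn.2 hzL) k
  generalize hwdef : (n * z) ^ k = w at hk hw1 hwH hwD hwL
  let V : Subgroup G :=
    { carrier := {v | v ∈ T0 ∧ v ^ s = 1 ∧ ∀ a ∈ T0, Commute v a}
      one_mem' := ⟨T0.one_mem, one_pow s, fun a _ => Commute.one_left a⟩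
      mul_mem' := fun {a b} ha hb => ⟨T0.mul_mem ha.1 hb.1,
        by rw [(ha.2.2 b hb.1).mul_pow, ha.2.1, hb.2.1, one_mul],
        fun c hc => (ha.2.2 c hc).mul_left (hb.2.2 c hc)⟩
      inv_mem' := fun {a} ha => ⟨T0.inv_mem ha.1, by rw [inv_pow, ha.2.1, inv_one],
        fun c hc => (ha.2.2 c hc).inv_left⟩ }
  have hLV : ∀ l ∈ L, ∀ v ∈ V, l * v * l⁻¹ ∈ V := by
    intro l hl v hv
    have hl' := Subgroup.mem_normalizer_iff.1 hl
    refine ⟨(hl' v).1 hv.1, by rw [conj_pow, hv.2.1]; group, fun a ha => ?_⟩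
    have ha' : l⁻¹ * a * l ∈ T0 := (hl' _).2 (by simpa [mul_assoc] using ha)
    have := hv.2.2 _ ha'
    calc l * v * l⁻¹ * a = l * (v * (l⁻¹ * a * l)) * l⁻¹ := by group
      _ = l * ((l⁻¹ * a * l) * v) * l⁻¹ := by rw [this.eq]
      _ = a * (l * v * l⁻¹) := by group
  have hTH : T0 ≤ (P.M h0) := Subgroup.map_subtype_le _
  have hsplit := split_pow_card_eq_one V D hr (by rw [← hk]; exact pow_orderOf_eq_one w)
    (fun a ha b hb => (ha.2.2 b hb.1).eq)
    (fun d hd v hv => hLV d (hDN hd).2 v hv) (hLV w hwL) hwD ?_ ?_ ?_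
  · -- a nontrivial element of `V`
    have hT0 : IsPGroup s T0 := T.2.map _
    have hT1 : T0 ≠ ⊥ := by
      intro e
      have := Subgroup.card_map_of_injective (K := (T : Subgroup (P.M h0))) (P.M h0).subtype_injective
      rw [show (T : Subgroup (P.M h0)).map (P.M h0).subtype = T0 from rfl, e, Subgroup.card_bot] at this
      exact (Sylow.ne_bot_of_dvd_card T hsH) (Subgroup.card_eq_one.1 this.symm)
    haveI : Nontrivial T0 := (Subgroup.nontrivial_iff_ne_bot T0).2 hT1
    haveI := hT0.center_nontrivial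
    obtain ⟨kc, hkc0, hkc⟩ := (hT0.to_subgroup (Subgroup.center T0)).nontrivial_iff_card.1
      inferInstance
    obtain ⟨c, hc⟩ := exists_prime_orderOf_dvd_card' (G := Subgroup.center T0) s
      (by rw [hkc]; exact dvd_pow_self s hkc0.ne')
    rw [← Subgroup.orderOf_coe, ← Subgroup.orderOf_coe] at hc
    have hcV : ((c : T0) : G) ∈ V := ⟨(c : T0).2, by rw [← hc, pow_orderOf_eq_one],
      fun a ha => (congrArg Subtype.val ((Subgroup.mem_center_iff.1 c.2) ⟨a, ha⟩)).symm⟩
    obtain ⟨m, hm⟩ := IsPGroup.iff_card.1 hDp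
    have h1 := orderOf_dvd_of_pow_eq_one (hsplit _ hcV)
    rw [hc, hm] at h1
    exact hst ((Nat.prime_dvd_prime_iff_eq hs ht).1 (hs.dvd_of_dvd_pow h1))
  · intro v hv
    have hvH : v * w ∉ (P.M h0) := fun e => hwH (by simpa using (P.M h0).mul_mem ((P.M h0).inv_mem (hTH hv.1)) e)
    have e1 := orderOf_mk P hh0 hvH
    rw [show ((v * w : G) : G ⧸ (P.M h0)) = w by
      rw [QuotientGroup.mk_mul, (QuotientGroup.eq_one_iff v).2 (hTH hv.1), one_mul],
      orderOf_mk P hh0 hwH, hk] at e1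
    rw [e1]; exact pow_orderOf_eq_one _
  · intro d hd hc
    by_contra hd1
    by_cases hdH : d ∈ (P.M h0)
    · have ho := (out_comm P hh0 hwH hdH hd1 hc).1
      rw [hk] at ho
      exact htr (eq_of_dvd_orderOf ht hr hDp hd (ho ▸ dvd_rfl)).symm
    · obtain ⟨m, hm⟩ := orderOf_of_isPGroup ht hDp hd
      have hm0 : m ≠ 0 := by
        rintro rfl
        exact hd1 (orderOf_eq_one_iff.1 (by rw [hm, pow_zero]))
      have ho : orderOf (w * d) = r * t ^ m := by
        rw [hc.orderOf_mul_eq_mul_orderOf_of_coprime, hk, hm]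
        rw [hk, hm]
        exact ((Nat.coprime_primes hr ht).2 htr.symm).pow_right m
      have hwdH : w * d ∉ (P.M h0) := by
        intro e
        have e' : (w : G ⧸ (P.M h0)) * d = 1 := by
          rw [← QuotientGroup.mk_mul, QuotientGroup.eq_one_iff]; exact e
        have e'' := congrArg orderOf (mul_eq_one_iff_eq_inv.1 e')
        rw [orderOf_inv, orderOf_mk P hh0 hwH, orderOf_mk P hh0 hdH, hk, hm] at e''
        exact htr ((Nat.prime_dvd_prime_iff_eq ht hr).1 (e'' ▸ dvd_pow_self t hm0))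
      rcases hdiv with h | h
      · have := orderOf_dvd_of_pow_eq_one
          (pow_prime_eq_one P hh0 ht h hwdH (ho ▸ (dvd_pow_self t hm0).mul_left r))
        rw [ho] at this
        exact htr ((Nat.prime_dvd_prime_iff_eq hr ht).1 ((dvd_mul_right r _).trans this)).symm
      · have := orderOf_dvd_of_pow_eq_one
          (pow_prime_eq_one P hh0 hr h hwdH (ho ▸ dvd_mul_right r _))
        rw [ho] at this
        exact htr ((Nat.prime_dvd_prime_iff_eq ht hr).1
          (((dvd_pow_self t hm0).mul_left r).trans this))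
  · intro v hv hall
    by_contra hv1
    obtain ⟨d, hd, hdH⟩ := SetLike.not_le_iff_exists.1 hDH
    have ho := (out_comm P hh0 hdH (hTH hv.1) hv1 (hall d hd)).1
    have hvs : orderOf v = s := orderOf_eq_prime hv.2.1 hv1
    rw [hvs] at ho
    exact hst (eq_of_dvd_orderOf ht hs hDp hd (ho ▸ dvd_rfl))

end NormalPart

/-- A prime order element outside a normal subgroup `N` normalises a Sylow subgroup of `N`. -/
theorem NoNorm.not_dvd_of_normal {q : ℕ} (hq : q.Prime) (h : NoNorm q G) (N : Subgroup G)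
    [N.Normal] {z : G} (hz : orderOf z = q) (hzN : z ∉ N) {t : ℕ} (ht : t.Prime) (htq : t ≠ q) :
    ¬ t ∣ Nat.card N := by
  haveI := Fact.mk ht
  intro htd
  obtain ⟨D, hDN, hDp, hidx, n, hn, hDn⟩ :=
    exists_frattini t N z fun a ha => Subgroup.Normal.conj_mem inferInstance a ha z
  have htD : D ≠ ⊥ := fun e => hidx (by rw [e, Subgroup.relIndex_bot_left]; exact htd)
  have hqo : q ∣ orderOf (n * z) := by
    have hzo : orderOf (z : G ⧸ N) = q := by
      haveI := Fact.mk hq
      exact orderOf_eq_prime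
        (by rw [← QuotientGroup.mk_pow, ← hz, pow_orderOf_eq_one, QuotientGroup.mk_one])
        fun e => hzN ((QuotientGroup.eq_one_iff z).1 e)
    have e : ((n * z : G) : G ⧸ N) = z := by
      rw [QuotientGroup.mk_mul, (QuotientGroup.eq_one_iff n).2 hn, one_mul]
    rw [← hzo, ← e]
    exact orderOf_map_dvd (QuotientGroup.mk' N) _
  obtain ⟨k, hk⟩ := exists_pow_orderOf_eq hq hqo
  have hnk : ∀ d ∈ D, (n * z) ^ k * d * ((n * z) ^ k)⁻¹ ∈ D := by
    clear hk
    induction k with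
    | zero => intro d hd; simpa using hd
    | succ k ih =>
      intro d hd
      have := hDn _ (ih d hd)
      convert this using 1
      rw [pow_succ']
      simp only [mul_inv_rev, mul_assoc]
  exact htD (h _ hk t ht htq D hDp hnk)

/-- **A group with a normal part** is a Frobenius group or has a proper Hughes subgroup. -/
theorem normal_member (P : Partn G) {h0 : G} (hh0 : h0 ≠ 1) [(P.M h0).Normal] :
    FrobOrHughes G := by
  classical
  set H := P.M h0 with hHdef
  have hHne : H ≠ ⊥ := by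
    intro e
    exact hh0 (Subgroup.mem_bot.1 (e ▸ P.mem h0))
  have hHtop : H ≠ ⊤ := P.ne_top h0 hh0
  by_cases hA : ∀ q : ℕ, q.Prime → q ∣ Nat.card H → ∀ x ∉ H, ¬ q ∣ orderOf x
  · have hco : (Nat.card H).Coprime H.index := by
      refine Nat.coprime_of_dvd fun q hq hqH hqi => ?_
      haveI := Fact.mk hq
      rw [Subgroup.index_eq_card] at hqi
      obtain ⟨xb, hxb⟩ := exists_prime_orderOf_dvd_card' (G := G ⧸ H) q hqi
      obtain ⟨x, rfl⟩ := QuotientGroup.mk_surjective xb
      have hxH : x ∉ H := fun e => by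
        rw [(QuotientGroup.eq_one_iff x).2 e, orderOf_one] at hxb
        exact hq.one_lt.ne hxb
      exact hA q hq hqH x hxH (by rw [← NormalPart.orderOf_mk P hh0 hxH, hxb])
    obtain ⟨K, hK⟩ := Subgroup.exists_right_complement'_of_coprime hco
    refine Or.inl ⟨K, isFrobeniusComplement_of_free H K hK hHne ?_ ?_⟩
    · intro e
      exact hHtop (by rw [e, Subgroup.isComplement'_bot_right] at hK; exact hK)
    · intro k hk h hh hk1 h1 hc
      have hkH : k ∉ H := fun e => hk1 (Subgroup.mem_bot.1 (hK.disjoint.le_bot ⟨e, hk⟩))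
      obtain ⟨ho, hp, -⟩ := NormalPart.out_comm P hh0 hkH hh h1 hc
      exact hA _ hp (H.orderOf_dvd_natCard hh) k hkH (ho ▸ dvd_rfl)
  push Not at hA
  obtain ⟨q, hq, hqH, x0, hx0, hqx0⟩ := hA
  haveI := Fact.mk hq
  by_cases hB : ∀ g ∉ H, g ^ q = 1
  · refine Or.inr ⟨q, hq, fun e => hHtop (eq_top_iff.2 ?_)⟩
    rw [← e, Subgroup.closure_le]
    intro g hg
    by_contra hgH
    exact hg (hB g hgH)
  push Not at hB
  obtain ⟨g, hg, hgq⟩ := hB
  have hqg : ¬ q ∣ orderOf g := fun e => hgq (NormalPart.pow_prime_eq_one P hh0 hq hqH hg e)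
  have hg1 : g ≠ 1 := fun e => hg (e ▸ H.one_mem)
  obtain ⟨r, hr, hrg⟩ := Nat.exists_prime_and_dvd (n := orderOf g) (by simpa using hg1)
  have hrq : r ≠ q := fun e => hqg (e ▸ hrg)
  have hri : r ∣ Nat.card (G ⧸ H) := by
    rw [← NormalPart.orderOf_mk P hh0 hg] at hrg
    exact hrg.trans (orderOf_dvd_natCard _)
  have hqi : q ∣ Nat.card (G ⧸ H) := by
    rw [← NormalPart.orderOf_mk P hh0 hx0] at hqx0
    exact hqx0.trans (orderOf_dvd_natCard _)
  have hno : ∀ p : ℕ, p.Prime → p ∣ Nat.card H → NoNorm p (G ⧸ H) :=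
    fun p hp hpH zb hzb t ht htp D hD hn =>
      NormalPart.not_normalises P hh0 hp ht hp htp (Or.inr hpH) hpH htp.symm hzb D hD hn
  -- the quotient has no normal `q`-complement
  obtain ⟨Pb⟩ : Nonempty (Sylow q (G ⧸ H)) := inferInstance
  have hnpc : ¬ ∃ N : Subgroup (G ⧸ H), N.Normal ∧ N.IsComplement' (Pb : Subgroup (G ⧸ H)) := by
    rintro ⟨N, hN, hc⟩
    haveI := hN
    obtain ⟨zb, hzb⟩ := exists_prime_orderOf_dvd_card' (G := (Pb : Subgroup (G ⧸ H))) q
      (Pb.dvd_card_of_dvd_card hqi)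
    rw [← Subgroup.orderOf_coe] at hzb
    have hzN : (zb : G ⧸ H) ∉ N := by
      intro e
      have := Subgroup.mem_bot.1 (hc.disjoint.le_bot ⟨e, zb.2⟩)
      rw [this, orderOf_one] at hzb
      exact hq.one_lt.ne hzb
    refine (hno q hq hqH).not_dvd_of_normal hq N hzb hzN hr hrq ?_
    have hmul := hc.card_mul
    rw [← hmul] at hri
    refine ((Nat.Prime.dvd_mul hr).1 hri).resolve_right fun h => ?_
    obtain ⟨m, hm⟩ := IsPGroup.iff_card.1 Pb.2
    rw [hm] at h
    exact hrq ((Nat.prime_dvd_prime_iff_eq hr hq).1 (hr.dvd_of_dvd_pow h))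
  have hqonly : ∀ s : ℕ, s.Prime → s ∣ Nat.card H → s = q := by
    intro s hs hsH
    by_contra hsq
    apply hnpc
    rw [S0071.result Pb]
    intro Q hQ c hc hco
    by_contra hcQ
    have hc1 : c ≠ 1 := fun e => hcQ (by rw [e]; exact Subgroup.one_mem _)
    obtain ⟨r', hr', hr'c⟩ := Nat.exists_prime_and_dvd (n := orderOf c) (by simpa using hc1)
    obtain ⟨k, hk⟩ := exists_pow_orderOf_eq hr' hr'c
    have hr'q : q ≠ r' := by
      rintro rfl
      exact hq.one_lt.ne' ((Nat.coprime_self q).1 (hco.coprime_dvd_left hr'c))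
    have hck := Subgroup.mem_normalizer_iff.1 ((Subgroup.normalizer (Q : Set (G ⧸ H))).pow_mem hc k)
    have hbot : Q = ⊥ := NormalPart.not_normalises P hh0 hr' hq hs hr'q (Or.inl hqH) hsH hsq hk Q
      (Pb.2.to_le hQ) fun d hd => (hck d).1 hd
    apply hcQ
    rw [Subgroup.mem_centralizer_iff]
    intro y hy
    have hy1 : y = 1 := Subgroup.mem_bot.1 (hbot ▸ hy)
    rw [hy1, one_mul, mul_one]
  have hHq : IsPGroup q H :=
    IsPGroup.of_card (Nat.eq_prime_pow_of_unique_prime_dvd Nat.card_pos.ne'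
      (fun {d} hd hdd => hqonly d hd hdd))
  -- the Sylow subgroup of the quotient is normal
  have hT : ∃ T : Subgroup (G ⧸ H), T.Normal ∧ IsPGroup q T ∧ ¬ q ∣ T.index := by
    rcases eq_or_ne q 2 with h2 | h2
    · subst h2; exact (hno 2 hq hqH).sylow_two
    by_cases hev : Even (Nat.card (G ⧸ H))
    swap
    · haveI := S0205.result (Nat.not_even_iff_odd.1 hev)
      exact (hno q hq hqH).sylow_solvable hq
    haveI : Fact (Nat.Prime 2) := ⟨Nat.prime_two⟩
    obtain ⟨xb, hxb⟩ := exists_prime_orderOf_dvd_card' (G := G ⧸ H) 2 (even_iff_two_dvd.1 hev)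
    obtain ⟨x, rfl⟩ := QuotientGroup.mk_surjective xb
    have hxH : x ∉ H := fun e => by
      rw [(QuotientGroup.eq_one_iff x).2 e, orderOf_one] at hxb
      omega
    have hxo : orderOf x = 2 := by rw [← NormalPart.orderOf_mk P hh0 hxH, hxb]
    have hfree : ∀ y : G, orderOf y = 2 → y ∉ H → ∀ h ∈ H, Commute y h → h = 1 := by
      intro y hy hyH h hh hc
      by_contra h1
      have ho := (NormalPart.out_comm P hh0 hyH hh h1 hc).1
      rw [hy] at ho
      exact h2 (eq_of_dvd_orderOf hq Nat.prime_two hHq hh (ho ▸ dvd_rfl)).symm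
    let C : Subgroup G := Subgroup.centralizer (H : Set G)
    haveI : C.Normal := Subgroup.normal_centralizer
    have hC : IsPGroup q C := by
      rintro ⟨c, hc⟩
      by_cases hcH : c ∈ H
      · obtain ⟨m, hm⟩ := hHq ⟨c, hcH⟩
        exact ⟨m, Subtype.ext (by simpa using congrArg Subtype.val hm)⟩
      · obtain ⟨h, hh, h1⟩ := (Subgroup.bot_or_exists_ne_one H).resolve_left hHne
        have hcomm : Commute c h := (Subgroup.mem_centralizer_iff.1 hc h hh).symm
        obtain ⟨ho, hp, -⟩ := NormalPart.out_comm P hh0 hcH hh h1 hcomm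
        refine ⟨1, Subtype.ext ?_⟩
        rw [pow_one, Subgroup.coe_pow, Subgroup.coe_one,
          ← hqonly _ hp (H.orderOf_dvd_natCard hh), ← ho, pow_orderOf_eq_one]
    let B : Subgroup G := C ⊔ H
    have hB : IsPGroup q B := hC.to_sup_of_normal_left hHq
    have hcomm : ∀ a : G, a * x * a⁻¹ * x ∈ B := by
      intro a
      apply Subgroup.mem_sup_left
      rw [Subgroup.mem_centralizer_iff]
      intro h hh
      have hh' : h ∈ H := hh
      have hxx := Involution.mul_self_eq_one hxo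
      have hy : orderOf (a * x * a⁻¹) = 2 := by rw [Involution.orderOf_conj_eq, hxo]
      have hyH : a * x * a⁻¹ ∉ H := fun e => hxH (by
        have := (inferInstance : H.Normal).conj_mem _ e a⁻¹
        convert this using 1
        group)
      have e1 := inverts_of_free H (fun h hh => (inferInstance : H.Normal).conj_mem h hh _) hxx (hfree x hxo hxH) hh'
      have e2 := inverts_of_free H (fun h hh => (inferInstance : H.Normal).conj_mem h hh _)
        (Involution.mul_self_eq_one hy) (hfree _ hy hyH) (H.inv_mem hh')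
      rw [inv_inv] at e2
      have e3 : (a * x * a⁻¹ * x) * h * (a * x * a⁻¹ * x)⁻¹ = h := by
        calc _ = a * x * a⁻¹ * (x * h * x⁻¹) * (a * x * a⁻¹)⁻¹ := by group
          _ = h := by rw [e1, e2]
      exact (mul_inv_eq_iff_eq_mul.1 e3).symm
    have hidx := not_dvd_index_of_involution hq h2 hxo B hB hcomm (by
      intro n hn hc
      by_cases hnH : n ∈ H
      · rw [hfree x hxo hxH n hnH hc.symm, orderOf_one] at hn
        exact hq.one_lt.ne hn
      have hnx : n * x ∉ H := by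
        intro e
        have e' : (n : G ⧸ H) * x = 1 := by
          rw [← QuotientGroup.mk_mul, QuotientGroup.eq_one_iff]; exact e
        have e'' := congrArg orderOf (mul_eq_one_iff_eq_inv.1 e')
        rw [orderOf_inv, NormalPart.orderOf_mk P hh0 hnH, hn, hxb] at e''
        exact h2 e''
      have ho : orderOf (n * x) = q * 2 := by
        rw [hc.orderOf_mul_eq_mul_orderOf_of_coprime, hn, hxo]
        rw [hn, hxo]
        exact (Nat.coprime_primes hq Nat.prime_two).2 h2
      have h3 := orderOf_dvd_of_pow_eq_one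
        (NormalPart.pow_prime_eq_one P hh0 hq hqH hnx (ho ▸ dvd_mul_right q 2))
      rw [ho] at h3
      exact h2 ((Nat.prime_dvd_prime_iff_eq Nat.prime_two hq).1
        ((dvd_mul_left 2 q).trans h3)).symm)
    refine ⟨B.map (QuotientGroup.mk' H), (inferInstance : B.Normal).map _
      (QuotientGroup.mk'_surjective H), hB.map _, ?_⟩
    rwa [Subgroup.index_map_eq _ (QuotientGroup.mk'_surjective H)]
    rw [QuotientGroup.ker_mk']
    exact le_sup_right
  obtain ⟨T, hTn, hTq, hTi⟩ := hT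
  let S : Subgroup G := T.comap (QuotientGroup.mk' H)
  haveI : S.Normal := hTn.comap _
  have hS : IsPGroup q S := hTq.comap_of_ker_isPGroup _ (by rwa [QuotientGroup.ker_mk'])
  have hSi : ¬ q ∣ S.index := by
    rwa [Subgroup.index_comap_of_surjective _ (QuotientGroup.mk'_surjective H)]
  obtain ⟨m, hm⟩ := IsPGroup.iff_card.1 hS
  have hco : (Nat.card S).Coprime S.index := by
    rw [hm]; exact ((hq.coprime_iff_not_dvd).2 hSi).pow_left m
  obtain ⟨K, hK⟩ := Subgroup.exists_right_complement'_of_coprime hco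
  have hKcard : Nat.card K = S.index := (hK.symm.index_eq_card).symm
  have hHS : H ≤ S := fun a ha => by
    show QuotientGroup.mk' H a ∈ T
    rw [show QuotientGroup.mk' H a = 1 from (QuotientGroup.eq_one_iff a).2 ha]
    exact T.one_mem
  refine Or.inl ⟨K, isFrobeniusComplement_of_free S K hK ?_ ?_ ?_⟩
  · exact fun e => hHne (le_bot_iff.1 (e ▸ hHS))
  · intro e
    have h1 : S.index = 1 := by rw [← hKcard, e, Subgroup.card_bot]
    have hST : S = ⊤ := Subgroup.index_eq_one.1 h1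
    rw [hST, Subgroup.card_top] at hm
    have hrG : r ∣ Nat.card G := hri.trans (Subgroup.card_quotient_dvd_card H)
    rw [hm] at hrG
    exact hrq ((Nat.prime_dvd_prime_iff_eq hr hq).1 (hr.dvd_of_dvd_pow hrG))
  · intro k hk c hc hk1 hc1 hcm
    have hkS : k ∉ S := fun e => hk1 (Subgroup.mem_bot.1 (hK.disjoint.le_bot ⟨e, hk⟩))
    have hkH : k ∉ H := fun e => hkS (hHS e)
    have hko : ¬ q ∣ orderOf k := fun e =>
      hSi (e.trans (hKcard ▸ K.orderOf_dvd_natCard hk))
    by_cases hcH : c ∈ H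
    · obtain ⟨ho, -, -⟩ := NormalPart.out_comm P hh0 hkH hcH hc1 hcm
      exact hko (ho ▸ dvd_orderOf_of_ne_one hq hHq hcH hc1)
    · have hkc : k * c ∉ H := fun e => hkS (by
        simpa using S.mul_mem (hHS e) (S.inv_mem hc))
      obtain ⟨i, hi⟩ := orderOf_of_isPGroup hq hS hc
      have ho : orderOf (k * c) = orderOf k * orderOf c := by
        refine hcm.orderOf_mul_eq_mul_orderOf_of_coprime ?_
        rw [hi]
        exact (((hq.coprime_iff_not_dvd).2 hko).symm).pow_right i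
      have h3 := orderOf_dvd_of_pow_eq_one (NormalPart.pow_prime_eq_one P hh0 hq hqH hkc
        (ho ▸ (dvd_orderOf_of_ne_one hq hS hc hc1).mul_left _))
      rw [ho] at h3
      have h4 := (dvd_mul_right _ _).trans h3
      rcases (Nat.dvd_prime hq).1 h4 with h5 | h5
      · exact hk1 (orderOf_eq_one_iff.1 h5)
      · exact hko h5.symm.dvd

end Cfsg.Agent.Lib.GroupPartition
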