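import Cfsg.Agent.Lib.GroupPartition.Invol
import Cfsg.Agent.Lib.SECount.Basic
import Cfsg.Prelude.Def_LieExceptional
import Cfsg.Agent.S0215

/-!
# All involution centralisers inside their parts: a strongly embedded subgroup
-/

set_option autoImplicit false

namespace Cfsg.Agent.Lib.GroupPartition

open Cfsg.Agent.Lib.CyclicNorm64 (cent mem_cent)

variable {G : Type*} [Group G] [Finite G]

/-- The data of the second case: a part containing a Sylow `2`-subgroup with its involution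
centralisers, which is not elementary. -/
structure SEData (P : Partn G) (u : G) : Prop where
  hno : ∀ x, x ≠ 1 → ¬ (P.M x).Normal
  hss : ∀ N : Subgroup G, N.Normal → Group.IsSolvable ↥N → N = ⊥
  inv : orderOf u = 2
  sylow : ∃ W : Sylow 2 G, (W : Subgroup G) ≤ P.M u
  centLe : ∀ v ∈ P.M u, orderOf v = 2 → ∀ w, Commute w v → w ∈ P.M u
  nonel : ∃ c ∈ P.M u, c * c ≠ 1

/-- If some non-elementary involution centraliser lies in its part, such data exist. -/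
theorem exists_seData (P : Partn G) (hno : ∀ x, x ≠ 1 → ¬ (P.M x).Normal)
    (hss : ∀ N : Subgroup G, N.Normal → Group.IsSolvable ↥N → N = ⊥) {t0 c0 : G}
    (ht0 : orderOf t0 = 2) (hc0 : Commute c0 t0) (hc02 : c0 * c0 ≠ 1)
    (hin : ∀ x, Commute x t0 → x ∈ P.M t0) : ∃ u, SEData P u := by
  haveI : Fact (Nat.Prime 2) := ⟨Nat.prime_two⟩
  obtain ⟨W⟩ : Nonempty (Sylow 2 G) := inferInstance
  obtain ⟨g, -, hgW⟩ := CyclicNorm64.exists_conj_le_sylow W (K := ⊤) le_top le_top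
    (CyclicNorm64.isPGroup_zpowers_invol ht0)
  have hg := hgW t0 (Subgroup.mem_zpowers t0)
  obtain ⟨t', ht'def⟩ : ∃ t', t' = g * t0 * g⁻¹ := ⟨_, rfl⟩
  rw [← ht'def] at hg
  have ht' : orderOf t' = 2 := by rw [ht'def, Involution.orderOf_conj_eq, ht0]
  have hin' : ∀ x, Commute x t' → x ∈ P.M t' := by
    intro x hx
    have h1 : Commute (g⁻¹ * x * g) t0 := by
      have := hx.map (MulAut.conj g⁻¹).toMonoidHom
      simp [ht'def, mul_assoc] at this ⊢
      exact this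
    have h2 := P.conj_mem g _ _ (hin _ h1)
    rw [← ht'def, show g * (g⁻¹ * x * g) * g⁻¹ = x by group] at h2
    exact h2
  haveI : Nontrivial (W : Subgroup G) :=
    ⟨⟨⟨t', hg⟩, 1, fun e => Involution.ne_one ht' (congrArg Subtype.val e)⟩⟩
  haveI := W.2.center_nontrivial
  obtain ⟨kc, hkc0, hkc⟩ :=
    (W.2.to_subgroup (Subgroup.center (W : Subgroup G))).nontrivial_iff_card.1 inferInstance
  obtain ⟨z, hz⟩ := exists_prime_orderOf_dvd_card' (G := Subgroup.center (W : Subgroup G)) 2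
    (by rw [hkc]; exact dvd_pow_self 2 hkc0.ne')
  rw [← Subgroup.orderOf_coe, ← Subgroup.orderOf_coe] at hz
  obtain ⟨u, hudef⟩ : ∃ u : G, u = ((z : (W : Subgroup G)) : G) := ⟨_, rfl⟩
  rw [← hudef] at hz
  have hWu : ∀ w ∈ (W : Subgroup G), Commute w u := fun w hw => by
    rw [hudef]
    exact congrArg Subtype.val (Subgroup.mem_center_iff.1 z.2 ⟨w, hw⟩)
  have hut' : u ∈ P.M t' := hin' u (hWu t' hg).symm
  have hMu : P.M u = P.M t' :=
    P.eq_of_mem t' u (Involution.ne_one ht') (Involution.ne_one hz) hut'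
  have hCu : ∀ x, Commute x u → x ∈ P.M u := by
    intro x hx
    by_contra hxM
    by_cases hel : ∃ c, Commute c u ∧ c * c ≠ 1
    · obtain ⟨c, hc, hc2⟩ := hel
      have k : Invol.Cfg P u x c := ⟨hz, hx, hxM, hc, hc2⟩
      have hu' := k.unique_invol hss ht' (hWu t' hg) (hMu ▸ P.mem t')
      exact hxM (hu' ▸ hin' x (hu' ▸ hx))
    · push Not at hel
      have h1 := hel (x * t') (hx.mul_left (hWu t' hg))
      have hxt : Commute x t' := by
        have h2 : x * t' = (x * t')⁻¹ := (Involution.inv_eq_self h1).symm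
        rw [mul_inv_rev, Involution.inv_eq_self (Involution.mul_self_eq_one ht'),
          Involution.inv_eq_self (hel x hx)] at h2
        exact h2
      exact hxM (hMu ▸ hin' x hxt)
  have hWH : (W : Subgroup G) ≤ P.M u := fun w hw => hCu w (hWu w hw)
  refine ⟨u, hno, hss, hz, ⟨W, hWH⟩, ?_, ?_⟩
  · intro v hv hv2 w hw
    by_contra hwH
    have hMv : P.M v = P.M u :=
      P.eq_of_mem u v (Involution.ne_one hz) (Involution.ne_one hv2) hv
    obtain ⟨d, hd, hdW⟩ := CyclicNorm64.exists_conj_le_sylow W hWH (R := Subgroup.zpowers v)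
      (Subgroup.zpowers_le.2 hv) (CyclicNorm64.isPGroup_zpowers_invol hv2)
    have hdv := hdW v (Subgroup.mem_zpowers v)
    have hu'v : Commute (d⁻¹ * u * d) v := by
      have := ((hWu _ hdv).symm).map (MulAut.conj d⁻¹).toMonoidHom
      simp [mul_assoc] at this ⊢
      exact this
    have hu'M : d⁻¹ * u * d ∈ P.M u :=
      (P.M u).mul_mem ((P.M u).mul_mem ((P.M u).inv_mem hd) (P.mem u)) hd
    have hu'o : orderOf (d⁻¹ * u * d) = 2 := by
      have := Involution.orderOf_conj_eq d⁻¹ u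
      rw [inv_inv] at this
      rw [this, hz]
    have hu'C : ∀ x, Commute x (d⁻¹ * u * d) → x ∈ P.M u := by
      intro x hx
      have h1 : Commute (d * x * d⁻¹) u := by
        have := hx.map (MulAut.conj d).toMonoidHom
        simp [mul_assoc] at this ⊢
        exact this
      have h2 := (P.M u).mul_mem ((P.M u).mul_mem ((P.M u).inv_mem hd) (hCu _ h1)) hd
      simpa [mul_assoc] using h2
    by_cases hel : ∃ c, Commute c v ∧ c * c ≠ 1
    · obtain ⟨c, hc, hc2⟩ := hel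
      have k : Invol.Cfg P v w c := ⟨hv2, hw, hMv ▸ hwH, hc, hc2⟩
      have e := k.unique_invol hss hu'o hu'v (hMv ▸ hu'M)
      exact hwH (hu'C w (e.symm ▸ hw))
    · push Not at hel
      have h1 := hel (w * (d⁻¹ * u * d)) (hw.mul_left hu'v)
      have h2 : w * (d⁻¹ * u * d) = (w * (d⁻¹ * u * d))⁻¹ := (Involution.inv_eq_self h1).symm
      rw [mul_inv_rev, Involution.inv_eq_self (Involution.mul_self_eq_one hu'o),
        Involution.inv_eq_self (hel w hw)] at h2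
      exact hwH (hu'C w h2)
  · refine ⟨g * c0 * g⁻¹, ?_, ?_⟩
    · rw [hMu]
      apply hin'
      rw [ht'def]
      have := hc0.map (MulAut.conj g).toMonoidHom
      simp [mul_assoc] at this ⊢
      exact this
    · rw [show g * c0 * g⁻¹ * (g * c0 * g⁻¹) = g * (c0 * c0) * g⁻¹ by group]
      intro e
      apply hc02
      calc c0 * c0 = g⁻¹ * (g * (c0 * c0) * g⁻¹) * g := by group
        _ = 1 := by rw [e]; group

namespace SEData

variable {P : Partn G} {u : G} (d : SEData P u)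
include d

/-- The normaliser of the part of `u`. -/
abbrev Mn (_d : SEData P u) : Subgroup G := Subgroup.normalizer (P.M u : Set G)

theorem u_ne : u ≠ 1 := Involution.ne_one d.inv

theorem le_Mn : P.M u ≤ d.Mn := Subgroup.le_normalizer

theorem mem_Mn {g y : G} (hy1 : y ≠ 1) (hy : y ∈ P.M u) (hgy : g * y * g⁻¹ ∈ P.M u) : g ∈ d.Mn := by
  rw [Subgroup.mem_normalizer_iff]
  have hfwd : ∀ z ∈ P.M u, g * z * g⁻¹ ∈ P.M u := fun z hz =>
    P.conj_eq_self d.u_ne hy1 hy hgy hz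
  intro z
  refine ⟨hfwd z, fun h => ?_⟩
  have hinj : Function.Injective (fun a : P.M u => (⟨g * a * g⁻¹, hfwd a a.2⟩ : P.M u)) :=
    fun a b hab => Subtype.ext (by simpa using congrArg Subtype.val hab)
  obtain ⟨b, hb⟩ := Finite.surjective_of_injective hinj ⟨_, h⟩
  have : (b : G) = z := by simpa using congrArg Subtype.val hb
  exact this ▸ b.2

theorem conjH {g z : G} (hg : g ∈ d.Mn) (hz : z ∈ P.M u) : g * z * g⁻¹ ∈ P.M u :=
  (Subgroup.mem_normalizer_iff.1 hg z).1 hz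

theorem conjH' {g z : G} (hg : g ∈ d.Mn) (hz : z ∈ P.M u) : g⁻¹ * z * g ∈ P.M u := by
  simpa using d.conjH (d.Mn.inv_mem hg) hz

theorem invol_mem {v : G} (hv : orderOf v = 2) (hvM : v ∈ d.Mn) : v ∈ P.M u := by
  obtain ⟨W, hW⟩ := d.sylow
  obtain ⟨c, hc, hcW⟩ := CyclicNorm64.exists_conj_le_sylow W (hW.trans d.le_Mn)
    (R := Subgroup.zpowers v) (Subgroup.zpowers_le.2 hvM) (CyclicNorm64.isPGroup_zpowers_invol hv)
  have := d.conjH' hc (hW (hcW v (Subgroup.mem_zpowers v)))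
  simpa [mul_assoc] using this

theorem se : Cfsg.IsStronglyEmbedded d.Mn := by
  refine ⟨fun e => d.hno u d.u_ne (Subgroup.normalizer_eq_top_iff.1 e),
    Involution.even_card_of_mem d.inv (d.le_Mn (P.mem u)), fun g hg => ?_⟩
  rw [← Nat.not_even_iff_odd]
  intro hev
  obtain ⟨v, ⟨hv1, hv2⟩, hv⟩ := Involution.exists_orderOf_eq_two _ hev
  replace hv2 : g⁻¹ * v * g ∈ d.Mn := SECount.mem_map_conj.1 hv2
  have ho : orderOf (g⁻¹ * v * g) = 2 := by
    have := Involution.orderOf_conj_eq g⁻¹ v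
    rw [inv_inv] at this
    rw [this, hv]
  exact hg (d.mem_Mn (Involution.ne_one ho) (d.invol_mem ho hv2)
    (by rw [show g * (g⁻¹ * v * g) * g⁻¹ = v by group]; exact d.invol_mem hv hv1))

theorem sq_ne {i : G} (hi : orderOf i = 2) {h : G} (hh : h ∈ P.M u) (hiM : i ∉ d.Mn)
    (hinv : i * h * i⁻¹ = h⁻¹) : h = 1 := by
  by_contra h1
  exact hiM (d.mem_Mn h1 hh (hinv ▸ (P.M u).inv_mem hh))

theorem disjoint_conj {g z : G} (hg : g ∉ d.Mn) (hz : z ∈ P.M u)
    (hgz : g⁻¹ * z * g ∈ P.M u) : z = 1 := by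
  by_contra h1
  refine hg (d.mem_Mn (fun e => h1 ?_) hgz ?_)
  · calc z = g * (g⁻¹ * z * g) * g⁻¹ := by group
      _ = 1 := by rw [e]; group
  · rwa [show g * (g⁻¹ * z * g) * g⁻¹ = z by group]

theorem card_out {g : G} (hg : g ∉ d.Mn) : ∃ i, orderOf i = 2 ∧ i ∉ d.Mn ∧ g⁻¹ * i ∈ d.Mn := by
  have hpos : 0 < Nat.card {t : G // orderOf t = 2 ∧ t ∈ d.Mn} := by
    haveI : Nonempty {t : G // orderOf t = 2 ∧ t ∈ d.Mn} :=
      ⟨⟨u, d.inv, d.le_Mn (P.mem u)⟩⟩
    exact Nat.card_pos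
  rw [← SECount.card_coset_invo d.se hg] at hpos
  obtain ⟨⟨i, hi, hig⟩⟩ := (Nat.card_pos_iff.1 hpos).1
  exact ⟨i, hi, fun h => hg (by simpa using d.Mn.mul_mem h (d.Mn.inv_mem hig)), hig⟩

/-- The part of `u` in `M`. -/
abbrev Hs (_d : SEData P u) : Subgroup ↥(Subgroup.normalizer (P.M u : Set G)) :=
  (P.M u).subgroupOf _

theorem Hs_normal : d.Hs.Normal := ⟨fun a ha g => d.conjH g.2 ha⟩

/-- The class of `j * i` for an involution `i ∈ jM`. -/
def cls (d : SEData P u) (j : G) (hj : orderOf j = 2)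
    (i : {i : G // orderOf i = 2 ∧ j⁻¹ * i ∈ d.Mn}) :
    ↥(Subgroup.normalizer (P.M u : Set G)) ⧸ d.Hs :=
  QuotientGroup.mk ⟨j * i.1, by
    have e : j⁻¹ * i.1 = j * i.1 :=
      congrArg (· * i.1) (Involution.inv_eq_self (Involution.mul_self_eq_one hj))
    exact e ▸ i.2.2⟩

theorem cls_injective {j : G} (hj : orderOf j = 2) (hjM : j ∉ d.Mn) :
    Function.Injective (d.cls j hj) := by
  rintro ⟨i, hi, hiM⟩ ⟨i', hi', hiM'⟩ h
  rw [cls, cls, QuotientGroup.eq] at h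
  have h' : (j * i)⁻¹ * (j * i') ∈ P.M u := h
  have hii := Involution.mul_self_eq_one hi
  have hii' := Involution.mul_self_eq_one hi'
  rw [mul_inv_rev, mul_assoc, inv_mul_cancel_left, Involution.inv_eq_self hii] at h'
  have hiout : i ∉ d.Mn := fun e => hjM (by simpa using d.Mn.mul_mem e (d.Mn.inv_mem hiM))
  have := d.sq_ne hi h' hiout (by
    rw [mul_inv_rev, Involution.inv_eq_self hii, Involution.inv_eq_self hii', ← mul_assoc, hii,
      one_mul])
  refine Subtype.ext ?_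
  rw [mul_eq_one_iff_inv_eq, Involution.inv_eq_self hii] at this
  exact this

/-- The counting: the part centralises its involutions and meets `e` involutions. -/
theorem count {j : G} (hj : orderOf j = 2) (hjM : j ∉ d.Mn) :
    (∀ h ∈ P.M u, Commute h u) ∧
      Nat.card {t : G // orderOf t = 2 ∧ t ∈ d.Mn} = d.Hs.index ∧
      Function.Bijective (d.cls j hj) := by
  classical
  let M0 := Subgroup.normalizer (P.M u : Set G)
  let S : Subgroup M0 := (cent u).subgroupOf M0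
  have hSH : S ≤ d.Hs := fun x hx => d.centLe u (P.mem u) d.inv _ (mem_cent.1 hx)
  let f : M0 → {t : G // orderOf t = 2 ∧ t ∈ d.Mn} := fun x =>
    ⟨(x : G) * u * (x : G)⁻¹, by rw [Involution.orderOf_conj_eq, d.inv],
      M0.mul_mem (M0.mul_mem x.2 (d.le_Mn (P.mem u))) (M0.inv_mem x.2)⟩
  have hf : ∀ x y, f x = f y ↔ x⁻¹ * y ∈ S := by
    intro x y
    rw [Subgroup.mem_subgroupOf, mem_cent, Subtype.ext_iff]
    simp only [f, Subgroup.coe_mul, Subgroup.coe_inv]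
    constructor
    · intro e
      show (x : G)⁻¹ * y * u = u * ((x : G)⁻¹ * y)
      calc (x : G)⁻¹ * y * u = (x : G)⁻¹ * ((y : G) * u * (y : G)⁻¹) * y := by group
        _ = u * ((x : G)⁻¹ * y) := by rw [← e]; group
    · intro e
      calc (x : G) * u * (x : G)⁻¹ = x * (u * ((x : G)⁻¹ * y)) * (y : G)⁻¹ := by group
        _ = x * (((x : G)⁻¹ * y) * u) * (y : G)⁻¹ := by rw [e.eq]
        _ = (y : G) * u * (y : G)⁻¹ := by group
  let fq : M0 ⧸ S → {t : G // orderOf t = 2 ∧ t ∈ d.Mn} :=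
    Quotient.lift f fun a b hab => (hf a b).2 (QuotientGroup.leftRel_apply.1 hab)
  have hbij : Function.Bijective fq := by
    constructor
    · intro a b
      obtain ⟨a, rfl⟩ := QuotientGroup.mk_surjective a
      obtain ⟨b, rfl⟩ := QuotientGroup.mk_surjective b
      intro e
      exact QuotientGroup.eq.2 ((hf a b).1 e)
    · rintro ⟨v, hv, hvM⟩
      obtain ⟨x, hx, e⟩ := SECount.exists_conj_mem_inf d.se hj hjM d.inv
        (d.le_Mn (P.mem u)) hv hvM
      exact ⟨QuotientGroup.mk ⟨x, hx.1⟩, Subtype.ext e⟩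
  have hm : Nat.card {t : G // orderOf t = 2 ∧ t ∈ d.Mn} = S.index :=
    (Nat.card_eq_of_bijective fq hbij).symm
  have hjm : Nat.card {i : G // orderOf i = 2 ∧ j⁻¹ * i ∈ d.Mn} =
      Nat.card {t : G // orderOf t = 2 ∧ t ∈ d.Mn} := SECount.card_coset_invo d.se hjM
  have hle : S.index ≤ d.Hs.index := by
    rw [← hm, ← hjm, Subgroup.index_eq_card d.Hs]
    exact Nat.card_le_card_of_injective _ (d.cls_injective hj hjM)
  have heq : S.index = d.Hs.index := le_antisymm hle (Nat.le_of_dvd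
    (Nat.pos_of_ne_zero Subgroup.index_ne_zero_of_finite) (Subgroup.index_dvd_of_le hSH))
  have hHS : d.Hs ≤ S := by
    rw [← Subgroup.relIndex_eq_one]
    have := Subgroup.relIndex_mul_index hSH
    rw [heq] at this
    exact Nat.eq_of_mul_eq_mul_right (Nat.pos_of_ne_zero Subgroup.index_ne_zero_of_finite)
      (this.trans (one_mul _).symm)
  refine ⟨fun h hh => mem_cent.1 (hHS (show (⟨h, d.le_Mn hh⟩ : M0) ∈ d.Hs from hh)),
    hm.trans heq, ?_⟩
  rw [Nat.bijective_iff_injective_and_card]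
  exact ⟨d.cls_injective hj hjM, by rw [hjm, hm, heq, Subgroup.index_eq_card]⟩

theorem conj_exists {v : G} (hv : orderOf v = 2) : ∃ g, g * u * g⁻¹ = v :=
  isConj_iff.1 (SECount.isConj_invo d.se d.inv hv)

/-- Every part of an involution centralises it. -/
theorem part_comm {i z : G} (hi : orderOf i = 2) (hz : z ∈ P.M i) : Commute z i := by
  obtain ⟨j, hj, hjM⟩ := SECount.exists_invo_not_mem d.se
  obtain ⟨g, rfl⟩ := d.conj_exists hi
  have h0 : g⁻¹ * z * g ∈ P.M u := by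
    rw [← P.mem_conj_iff g, show g * (g⁻¹ * z * g) * g⁻¹ = z by group]
    exact hz
  have := ((d.count hj hjM).1 _ h0).map (MulAut.conj g).toMonoidHom
  simp [mul_assoc] at this ⊢
  exact this

theorem inf_part_eq_one {j x : G} (hj : orderOf j = 2) (hjM : j ∉ d.Mn) (hx : x ∈ P.M u)
    (hjx : j * x * j⁻¹ ∈ d.Mn) : x = 1 := by
  by_contra hx1
  obtain ⟨y, hy⟩ : ∃ y, y = j * x * j⁻¹ := ⟨_, rfl⟩
  rw [← hy] at hjx
  have hjj := Involution.mul_self_eq_one hj
  have hji := Involution.inv_eq_self hjj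
  have hjy : j * y * j⁻¹ = x := by
    rw [hy, show j * (j * x * j⁻¹) * j⁻¹ = (j * j) * x * (j * j)⁻¹ by group, hjj]
    group
  have hyH : y ∉ P.M u := fun e => hjM (d.mem_Mn hx1 hx (hy ▸ e))
  have hy1 : y ≠ 1 := fun e => hyH (e ▸ (P.M u).one_mem)
  have hxy : Commute x y := by
    have h2 : x * y * x⁻¹ * y⁻¹ = 1 := by
      have hc : x * y * x⁻¹ * y⁻¹ ∈ P.M u := by
        rw [show x * y * x⁻¹ * y⁻¹ = x * (y * x⁻¹ * y⁻¹) by group]
        exact (P.M u).mul_mem hx (d.conjH hjx ((P.M u).inv_mem hx))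
      refine d.disjoint_conj hjM hc ?_
      have e : j⁻¹ * (x * y * x⁻¹ * y⁻¹) * j = y * x * y⁻¹ * x⁻¹ := by
        rw [show j⁻¹ * (x * y * x⁻¹ * y⁻¹) * j = (j⁻¹ * x * j) * (j⁻¹ * y * j) * (j⁻¹ * x * j)⁻¹ *
          (j⁻¹ * y * j)⁻¹ by group]
        have e1 : j⁻¹ * x * j = y := by rw [hy, hji]
        have e2 : j⁻¹ * y * j = x := by
          conv_rhs => rw [← hjy]
          rw [hji]
        rw [e1, e2]
      rw [e]
      exact (P.M u).mul_mem (d.conjH hjx hx) ((P.M u).inv_mem hx)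
    exact mul_inv_eq_iff_eq_mul.1 (mul_inv_eq_one.1 h2)
  have hMx := P.eq_of_mem u x d.u_ne hx1 hx
  have hne : P.M x ≠ P.M y := fun e => hyH (hMx ▸ e ▸ P.mem y)
  obtain ⟨ho, hp⟩ := P.order_eq hx1 hy1 hxy hne
  have hodd : Odd (orderOf x) := by
    rcases hp.eq_two_or_odd' with h2 | h2
    · exact absurd (d.mem_Mn hx1 hx (hy ▸ d.invol_mem (ho ▸ h2) hjx)) hjM
    · exact h2
  have hne2 : orderOf x ≠ 2 := fun e => (Nat.not_even_iff_odd.2 hodd) (by rw [e]; exact even_two)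
  -- `w = x * y` lies in the part of `j`
  have hw1 : x * y ≠ 1 := fun e => hyH (by rw [← inv_eq_of_mul_eq_one_right e]; exact (P.M u).inv_mem hx)
  have hwo : orderOf (x * y) = orderOf x := by
    haveI := Fact.mk hp
    refine orderOf_eq_prime ?_ hw1
    rw [hxy.mul_pow, pow_orderOf_eq_one, one_mul, ho, pow_orderOf_eq_one]
  have hjw : Commute j (x * y) := by
    apply mul_inv_eq_iff_eq_mul.1
    rw [show j * (x * y) * j⁻¹ = (j * x * j⁻¹) * (j * y * j⁻¹) by group, ← hy, hjy, hxy.eq]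
  have hMw : P.M j = P.M (x * y) :=
    P.eq_of_orderOf_ne (Involution.ne_one hj) hw1 hjw (by rw [hj, hwo]; exact hne2.symm)
  obtain ⟨c, hc⟩ : ∃ c, c = y * x⁻¹ := ⟨_, rfl⟩
  have hjc : j * c * j⁻¹ = c⁻¹ := by
    rw [hc, show j * (y * x⁻¹) * j⁻¹ = (j * y * j⁻¹) * (j * x * j⁻¹)⁻¹ by group, hjy, ← hy,
      mul_inv_rev, inv_inv]
  have hcp : c ^ orderOf x = 1 := by
    rw [hc, (hxy.symm.inv_right).mul_pow, inv_pow, pow_orderOf_eq_one, inv_one, mul_one, ho,
      pow_orderOf_eq_one]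
  have hjc2 : (j * c) * (j * c) = 1 := by
    rw [hji] at hjc
    rw [← mul_assoc, hjc, inv_mul_cancel]
  have hjc1 : j * c ≠ 1 := by
    intro e
    have ec : c = j := by rw [← hji]; exact eq_inv_of_mul_eq_one_right e
    rw [ec] at hcp
    have := orderOf_dvd_of_pow_eq_one hcp
    rw [hj] at this
    exact (Nat.not_even_iff_odd.2 hodd) (even_iff_two_dvd.2 this)
  have hcw : Commute c (x * y) := by
    rw [hc]
    exact ((hxy.symm.mul_right (Commute.refl y)).mul_left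
      (((Commute.refl x).mul_right hxy).inv_left))
  have hMjc : P.M (j * c) = P.M (x * y) :=
    P.eq_of_orderOf_ne hjc1 hw1 (hjw.mul_left hcw)
      (by rw [Involution.orderOf_eq_two hjc2 hjc1, hwo]; exact hne2.symm)
  have hjcj : Commute (j * c) j := d.part_comm hj (by rw [hMw, ← hMjc]; exact P.mem _)
  have hcc : c * c = 1 := by
    have h1 : j * c * j⁻¹ = c := by
      calc j * c * j⁻¹ = (j * c) * j * (j * j)⁻¹ := by group
        _ = j * (j * c) * (j * j)⁻¹ := by rw [hjcj.eq]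
        _ = (j * j) * c * (j * j)⁻¹ := by group
        _ = c := by rw [hjj]; group
    rw [h1] at hjc
    nth_rewrite 1 [hjc]
    exact inv_mul_cancel c
  have hc1 : c = 1 := by
    obtain ⟨k, hk⟩ := hodd
    rwa [hk, pow_succ, pow_mul, pow_two, hcc, one_pow, one_mul] at hcp
  rw [hc, mul_inv_eq_one] at hc1
  exact hyH (hc1 ▸ hx)

/-- Membership in `D = M ∩ jMj`. -/
def InD (d : SEData P u) (j x : G) : Prop := x ∈ d.Mn ∧ j * x * j⁻¹ ∈ d.Mn

theorem InD.mul {j x y : G} (hx : d.InD j x) (hy : d.InD j y) : d.InD j (x * y) :=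
  ⟨d.Mn.mul_mem hx.1 hy.1, by
    rw [show j * (x * y) * j⁻¹ = (j * x * j⁻¹) * (j * y * j⁻¹) by group]
    exact d.Mn.mul_mem hx.2 hy.2⟩

theorem InD.inv {j x : G} (hx : d.InD j x) : d.InD j x⁻¹ :=
  ⟨d.Mn.inv_mem hx.1, by
    rw [show j * x⁻¹ * j⁻¹ = (j * x * j⁻¹)⁻¹ by group]
    exact d.Mn.inv_mem hx.2⟩

theorem inD_eq {j x y : G} (hj : orderOf j = 2) (hjM : j ∉ d.Mn) (hx : d.InD j x)
    (hy : d.InD j y) (h : x⁻¹ * y ∈ P.M u) : x = y :=
  inv_mul_eq_one.1 (d.inf_part_eq_one hj hjM h ((hx.inv d).mul d hy).2)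

/-- Every class contains an element of `D` inverted by `j`. -/
theorem exists_inD {j g : G} (hj : orderOf j = 2) (hjM : j ∉ d.Mn) (hg : g ∈ d.Mn) :
    ∃ x, d.InD j x ∧ j * x * j⁻¹ = x⁻¹ ∧ x⁻¹ * g ∈ P.M u := by
  obtain ⟨⟨i, hi, hiM⟩, e⟩ := (d.count hj hjM).2.2.2 (QuotientGroup.mk ⟨g, hg⟩)
  rw [cls, QuotientGroup.eq] at e
  have hjj := Involution.mul_self_eq_one hj
  have hji := Involution.inv_eq_self hjj
  have hinv : j * (j * i) * j⁻¹ = (j * i)⁻¹ := by
    rw [mul_inv_rev, Involution.inv_eq_self (Involution.mul_self_eq_one hi), ← mul_assoc, hjj,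
      one_mul]
  rw [hji] at hiM
  exact ⟨j * i, ⟨hiM, hinv ▸ d.Mn.inv_mem hiM⟩, hinv, e⟩

theorem inD_inverted {j x : G} (hj : orderOf j = 2) (hjM : j ∉ d.Mn) (hx : d.InD j x) :
    j * x * j⁻¹ = x⁻¹ := by
  obtain ⟨y, hy, hinv, hyx⟩ := d.exists_inD hj hjM hx.1
  rwa [d.inD_eq hj hjM hy hx hyx] at hinv

theorem inD_comm {j x y : G} (hj : orderOf j = 2) (hjM : j ∉ d.Mn) (hx : d.InD j x)
    (hy : d.InD j y) : Commute x y := by
  have h1 := d.inD_inverted hj hjM (hx.mul d hy)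
  rw [show j * (x * y) * j⁻¹ = (j * x * j⁻¹) * (j * y * j⁻¹) by group, d.inD_inverted hj hjM hx,
    d.inD_inverted hj hjM hy, ← mul_inv_rev] at h1
  exact (inv_injective h1).symm

theorem quot_comm {x y : G} (hx : x ∈ d.Mn) (hy : y ∈ d.Mn) :
    x * y * x⁻¹ * y⁻¹ ∈ P.M u := by
  obtain ⟨j, hj, hjM⟩ := SECount.exists_invo_not_mem d.se
  obtain ⟨a, ha, -, hax⟩ := d.exists_inD hj hjM hx
  obtain ⟨b, hb, -, hby⟩ := d.exists_inD hj hjM hy
  haveI := d.Hs_normal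
  let M0 := Subgroup.normalizer (P.M u : Set G)
  have e1 : ((⟨x, hx⟩ : M0) : M0 ⧸ d.Hs) = (⟨a, ha.1⟩ : M0) :=
    (QuotientGroup.eq.2 (show (⟨a, ha.1⟩ : M0)⁻¹ * ⟨x, hx⟩ ∈ d.Hs from hax)).symm
  have e2 : ((⟨y, hy⟩ : M0) : M0 ⧸ d.Hs) = (⟨b, hb.1⟩ : M0) :=
    (QuotientGroup.eq.2 (show (⟨b, hb.1⟩ : M0)⁻¹ * ⟨y, hy⟩ ∈ d.Hs from hby)).symm
  have hab : (⟨a, ha.1⟩ : M0) * ⟨b, hb.1⟩ * (⟨a, ha.1⟩ : M0)⁻¹ * (⟨b, hb.1⟩ : M0)⁻¹ = 1 :=
    Subtype.ext (show a * b * a⁻¹ * b⁻¹ = 1 by rw [(d.inD_comm hj hjM ha hb).eq]; group)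
  have : ((⟨x, hx⟩ * ⟨y, hy⟩ * (⟨x, hx⟩ : M0)⁻¹ * (⟨y, hy⟩ : M0)⁻¹ : M0) : M0 ⧸ d.Hs) = 1 := by
    rw [QuotientGroup.mk_mul, QuotientGroup.mk_mul, QuotientGroup.mk_mul, QuotientGroup.mk_inv,
      QuotientGroup.mk_inv, e1, e2, ← QuotientGroup.mk_inv, ← QuotientGroup.mk_inv,
      ← QuotientGroup.mk_mul, ← QuotientGroup.mk_mul, ← QuotientGroup.mk_mul, hab,
      QuotientGroup.mk_one]
  have h' := (QuotientGroup.eq_one_iff _).1 this
  exact h'

/-- `e` is odd. -/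
theorem index_odd : Odd d.Hs.index := by
  haveI : Fact (Nat.Prime 2) := ⟨Nat.prime_two⟩
  obtain ⟨W, hW⟩ := d.sylow
  rw [← Nat.not_even_iff_odd, even_iff_two_dvd]
  intro h
  exact W.not_dvd_index (((h.trans ((P.M u).relIndex_dvd_index_of_le d.le_Mn)).trans
    (Subgroup.index_dvd_of_le hW)))

/-- An element of `D` of order at most two is trivial. -/
theorem inD_sq {j x : G} (hj : orderOf j = 2) (hjM : j ∉ d.Mn) (hx : d.InD j x)
    (h : x * x = 1) : x = 1 := by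
  by_contra h1
  refine h1 (d.inf_part_eq_one hj hjM (d.invol_mem (Involution.orderOf_eq_two h h1) hx.1) hx.2)

theorem exists_inD_ne {j : G} (hj : orderOf j = 2) (hjM : j ∉ d.Mn) :
    ∃ x, d.InD j x ∧ x ≠ 1 := by
  by_contra hall
  push Not at hall
  haveI : Fact (Nat.Prime 2) := ⟨Nat.prime_two⟩
  have huniq : ∀ v, orderOf v = 2 → v ∈ d.Mn → v = u := by
    intro v hv hvM
    obtain ⟨g, hg, e⟩ := SECount.exists_conj_mem_inf d.se hj hjM d.inv
      (d.le_Mn (P.mem u)) hv hvM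
    have hg1 : g = 1 := hall g ⟨hg.1, by
      have := SECount.mem_map_conj.1 hg.2
      rw [Involution.inv_eq_self (Involution.mul_self_eq_one hj)] at this
      rw [Involution.inv_eq_self (Involution.mul_self_eq_one hj)]
      exact this⟩
    rw [← e, hg1]; group
  obtain ⟨W, hW⟩ := d.sylow
  have huW : u ∈ (W : Subgroup G) := by
    obtain ⟨c, -, hc⟩ := CyclicNorm64.exists_conj_le_sylow W hW (R := Subgroup.zpowers u)
      (Subgroup.zpowers_le.2 (P.mem u)) (CyclicNorm64.isPGroup_zpowers_invol d.inv)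
    have h1 := hc u (Subgroup.mem_zpowers u)
    rwa [huniq _ (by rw [Involution.orderOf_conj_eq, d.inv]) (d.le_Mn (hW h1))] at h1
  obtain ⟨N, hN, hodd, hcomm⟩ := S0215.result W u d.inv huW fun g hg =>
    huniq _ (by rw [Involution.orderOf_conj_eq, d.inv]) (d.le_Mn (hW hg))
  have hNbot : N = ⊥ := d.hss N hN (S0205.result hodd)
  refine hjM (d.le_Mn (d.centLe u (P.mem u) d.inv j ?_))
  have := hcomm j
  rw [hNbot, Subgroup.mem_bot] at this
  exact (mul_inv_eq_iff_eq_mul.1 (mul_inv_eq_one.1 this)).symm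

theorem inf_part_eq_one' {v x : G} (hv : orderOf v = 2) (hvM : v ∉ d.Mn) (hx : x ∈ P.M v)
    (hxM : x ∈ d.Mn) : x = 1 := by
  obtain ⟨w, hw, hwM, hwu⟩ :=
    SECount.exists_invo_conj d.se d.inv (d.le_Mn (P.mem u)) hv hvM
  have h0 : w⁻¹ * x * w ∈ P.M u := by
    rw [← P.mem_conj_iff w, show w * (w⁻¹ * x * w) * w⁻¹ = x by group, hwu]
    exact hx
  have h1 := d.inf_part_eq_one hw hwM h0
    (by rw [show w * (w⁻¹ * x * w) * w⁻¹ = x by group]; exact hxM)
  calc x = w * (w⁻¹ * x * w) * w⁻¹ := by group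
    _ = 1 := by rw [h1]; group

theorem commute_j {j x h : G} (hinv : j * x * j⁻¹ = x⁻¹) (hc : Commute h x) :
    Commute (j * h * j⁻¹) x := by
  have h1 := (hc.inv_right).map (MulAut.conj j).toMonoidHom
  simp only [MulEquiv.coe_toMonoidHom, MulAut.conj_apply] at h1
  rwa [show j * x⁻¹ * j⁻¹ = (j * x * j⁻¹)⁻¹ by group, hinv, inv_inv] at h1

/-- `D` acts without fixed points on the part. -/
theorem inD_free {j x h : G} (hj : orderOf j = 2) (hjM : j ∉ d.Mn) (hx : d.InD j x)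
    (hh : h ∈ P.M u) (hc : Commute h x) : h = 1 ∨ x = 1 := by
  classical
  by_contra hcon
  push Not at hcon
  obtain ⟨hh1, hx1⟩ := hcon
  have hjj := Involution.mul_self_eq_one hj
  have hji := Involution.inv_eq_self hjj
  have hxH : x ∉ P.M u := fun e => hx1 (d.inf_part_eq_one hj hjM e hx.2)
  have hjx := d.inD_inverted hj hjM hx
  have hne : P.M h ≠ P.M x := fun e =>
    hxH (P.eq_of_mem u h d.u_ne hh1 hh ▸ e ▸ P.mem x)
  obtain ⟨ho, -⟩ := P.order_eq hh1 hx1 hc hne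
  have hxo : orderOf x ≠ 2 := fun e => hx1 (d.inD_sq hj hjM hx (Involution.mul_self_eq_one e))
  obtain ⟨C, hC⟩ : ∃ C : Subgroup G, C = cent x := ⟨_, rfl⟩
  have hCodd : Odd (Nat.card C) := by
    rw [← Nat.not_even_iff_odd]
    intro hev
    obtain ⟨v, hv, hv2⟩ := Involution.exists_orderOf_eq_two _ hev
    have hM := P.eq_of_orderOf_ne hx1 (Involution.ne_one hv2) (mem_cent.1 (hC ▸ hv)).symm
      (by rw [hv2]; exact hxo)
    by_cases hvM : v ∈ d.Mn
    · exact hxH (P.eq_of_mem u v d.u_ne (Involution.ne_one hv2) (d.invol_mem hv2 hvM) ▸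
        hM ▸ P.mem x)
    · exact hx1 (d.inf_part_eq_one' hv2 hvM (hM ▸ P.mem x) hx.1)
  -- an element of `C` moving the base point to `j`
  have hg0 : j * h⁻¹ * j ∉ d.Mn := by
    intro e
    refine hh1 (d.inf_part_eq_one hj hjM hh ?_)
    have := d.Mn.inv_mem e
    rw [mul_inv_rev, mul_inv_rev, inv_inv, hji] at this
    rw [hji]
    rwa [← mul_assoc] at this
  obtain ⟨i, hi, hiM, hig⟩ := d.card_out hg0
  have hxi : d.InD i x⁻¹ := by
    refine ⟨d.Mn.inv_mem hx.1, ?_⟩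
    obtain ⟨n, hn, e⟩ : ∃ n, n ∈ d.Mn ∧ i = j * h⁻¹ * j * n :=
      ⟨_, hig, (mul_inv_cancel_left _ _).symm⟩
    have hi' : i = n⁻¹ * (j * h * j) := by
      rw [← Involution.inv_eq_self (Involution.mul_self_eq_one hi), e, mul_inv_rev, mul_inv_rev,
        mul_inv_rev, inv_inv, hji, mul_assoc j h]
    rw [hi']
    have h3 : (j * h * j) * x⁻¹ * (j * h * j)⁻¹ = x⁻¹ := by
      have := (d.commute_j hjx hc).inv_right
      rw [hji] at this
      rw [this.eq, mul_inv_cancel_right]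
    rw [show n⁻¹ * (j * h * j) * x⁻¹ * (n⁻¹ * (j * h * j))⁻¹ =
      n⁻¹ * ((j * h * j) * x⁻¹ * (j * h * j)⁻¹) * n by group, h3]
    exact d.Mn.mul_mem (d.Mn.mul_mem (d.Mn.inv_mem hn) (d.Mn.inv_mem hx.1)) hn
  have hix : i * x * i⁻¹ = x⁻¹ := by
    have h1 := d.inD_inverted hi hiM hxi
    rw [show i * x⁻¹ * i⁻¹ = (i * x * i⁻¹)⁻¹ by group] at h1
    exact inv_injective h1
  obtain ⟨c, hcdef⟩ : ∃ c, c = h * (j * i) * h⁻¹ := ⟨_, rfl⟩
  have hcC : c ∈ C := by
    rw [hC, mem_cent, hcdef]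
    have hji' : Commute (j * i) x := by
      apply mul_inv_eq_iff_eq_mul.1
      rw [show j * i * x * (j * i)⁻¹ = j * (i * x * i⁻¹) * j⁻¹ by group, hix,
        show j * x⁻¹ * j⁻¹ = (j * x * j⁻¹)⁻¹ by group, hjx, inv_inv]
    exact ((hc.mul_left hji').mul_left hc.inv_left)
  have hcj : c⁻¹ * j ∈ d.Mn := by
    have h1 : j⁻¹ * c ∈ d.Mn := by
      obtain ⟨n, hn, e⟩ : ∃ n, n ∈ d.Mn ∧ i = j * h⁻¹ * j * n :=
        ⟨_, hig, (mul_inv_cancel_left _ _).symm⟩
      have e1 : c = j * n * h⁻¹ := by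
        rw [hcdef, e]
        calc h * (j * (j * h⁻¹ * j * n)) * h⁻¹ = h * (j * j) * h⁻¹ * j * n * h⁻¹ := by group
          _ = j * n * h⁻¹ := by rw [hjj]; group
      rw [e1, mul_assoc, inv_mul_cancel_left]
      exact d.Mn.mul_mem hn (d.Mn.inv_mem (d.le_Mn hh))
    have := d.Mn.inv_mem h1
    rwa [mul_inv_rev, inv_inv] at this
  have hjC : ∀ a ∈ C, j * a * j⁻¹ ∈ C := fun a ha => by
    rw [hC, mem_cent] at ha ⊢
    exact d.commute_j hjx ha
  let O : Set (G ⧸ d.Mn) := MulAction.orbit C (QuotientGroup.mk (1 : G) : G ⧸ d.Mn)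
  have hjO : ∀ q ∈ O, j • q ∈ O := by
    rintro _ ⟨⟨a, ha⟩, rfl⟩
    refine ⟨⟨j * a * j⁻¹ * c, C.mul_mem (hjC a ha) hcC⟩, ?_⟩
    show (j * a * j⁻¹ * c) • (QuotientGroup.mk (1 : G) : G ⧸ d.Mn) = j • (a • QuotientGroup.mk 1)
    rw [MulAction.Quotient.smul_mk, MulAction.Quotient.smul_mk, MulAction.Quotient.smul_mk,
      smul_eq_mul, smul_eq_mul, smul_eq_mul, QuotientGroup.eq]
    rw [show (j * a * j⁻¹ * c * 1)⁻¹ * (j * (a * 1)) = c⁻¹ * j by group]
    exact hcj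
  haveI := Fintype.ofFinite O
  let σ : Equiv.Perm O :=
    { toFun := fun q => ⟨j • q.1, hjO q q.2⟩
      invFun := fun q => ⟨j • q.1, hjO q q.2⟩
      left_inv := fun q => Subtype.ext (by show j • j • q.1 = q.1; rw [smul_smul, hjj, one_smul])
      right_inv := fun q => Subtype.ext (by show j • j • q.1 = q.1; rw [smul_smul, hjj, one_smul]) }
  have hσ : σ ^ 2 ^ 1 = 1 := by
    rw [pow_one, pow_two]
    exact Equiv.ext fun q => Subtype.ext (by show j • j • q.1 = q.1; rw [smul_smul, hjj, one_smul])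
  have hOodd : ¬ 2 ∣ Fintype.card O := by
    rw [← Nat.card_eq_fintype_card]
    intro h2
    have hd := MulAction.index_stabilizer C (QuotientGroup.mk (1 : G) : G ⧸ d.Mn)
    rw [← Nat.card_coe_set_eq] at hd
    exact Nat.not_even_iff_odd.2 hCodd (even_iff_two_dvd.2
      ((h2.trans (hd.symm.dvd)).trans (Subgroup.index_dvd_card _)))
  haveI : Fact (Nat.Prime 2) := ⟨Nat.prime_two⟩
  obtain ⟨⟨q, ⟨⟨a, ha⟩, rfl⟩⟩, hq⟩ := Equiv.Perm.exists_fixed_point_of_prime hOodd hσ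
  have hq' : j • (a • (QuotientGroup.mk (1 : G) : G ⧸ d.Mn)) = a • QuotientGroup.mk 1 :=
    congrArg Subtype.val hq
  rw [MulAction.Quotient.smul_mk, MulAction.Quotient.smul_mk, smul_eq_mul, smul_eq_mul,
    QuotientGroup.eq] at hq'
  have hv : a⁻¹ * j * a ∈ d.Mn := by
    have := d.Mn.inv_mem hq'
    simpa [mul_assoc] using this
  have hvo : orderOf (a⁻¹ * j * a) = 2 := by
    have := Involution.orderOf_conj_eq a⁻¹ j
    rw [inv_inv] at this
    rw [this, hj]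
  have hvH := d.invol_mem hvo hv
  have hax : a⁻¹ * x * a = x := by
    rw [hC, mem_cent] at ha
    rw [mul_assoc, ← ha.eq, inv_mul_cancel_left]
  have hvinv : (a⁻¹ * j * a) * x * (a⁻¹ * j * a)⁻¹ = x⁻¹ := by
    have hax' : a * x * a⁻¹ = x := by
      rw [hC, mem_cent] at ha
      rw [ha.eq, mul_inv_cancel_right]
    calc (a⁻¹ * j * a) * x * (a⁻¹ * j * a)⁻¹ = a⁻¹ * (j * (a * x * a⁻¹) * j⁻¹) * a := by group
      _ = (a⁻¹ * x * a)⁻¹ := by rw [hax', hjx]; group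
      _ = x⁻¹ := by rw [hax]
  obtain ⟨v, hvdef⟩ : ∃ v, v = a⁻¹ * j * a := ⟨_, rfl⟩
  rw [← hvdef] at hvH hvinv
  have hmem : x * v * x⁻¹ * v⁻¹ ∈ P.M u :=
    (P.M u).mul_mem (d.conjH hx.1 hvH) ((P.M u).inv_mem hvH)
  have e : x * v * x⁻¹ * v⁻¹ = x * x := by
    rw [show x * v * x⁻¹ * v⁻¹ = x * (v * x * v⁻¹)⁻¹ by group, hvinv, inv_inv]
  rw [e] at hmem
  exact hx1 (d.inD_sq hj hjM hx (d.inf_part_eq_one hj hjM hmem (hx.mul d hx).2))

/-- The stabiliser of any second point is conjugate to `D` by the part. -/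
theorem exists_conj_inD {j i : G} (hj : orderOf j = 2) (hjM : j ∉ d.Mn) (hi : orderOf i = 2)
    (hiM : i ∉ d.Mn) :
    ∃ h ∈ P.M u, ∀ y, d.InD j y → d.InD i (h * y * h⁻¹) := by
  classical
  obtain ⟨x, hx, hx1⟩ := d.exists_inD_ne hj hjM
  obtain ⟨xi, hxi, -, hxix⟩ := d.exists_inD hi hiM hx.1
  let f : P.M u → P.M u := fun h => ⟨(h : G) * x * (h : G)⁻¹ * x⁻¹, by
    rw [show (h : G) * x * (h : G)⁻¹ * x⁻¹ = h * (x * (h : G)⁻¹ * x⁻¹) by group]
    exact (P.M u).mul_mem h.2 (d.conjH hx.1 ((P.M u).inv_mem h.2))⟩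
  have hf : Function.Injective f := by
    intro a b hab
    have e := mul_right_cancel (congrArg Subtype.val hab)
    have hc : Commute ((b : G)⁻¹ * a) x := by
      show (b : G)⁻¹ * a * x = x * ((b : G)⁻¹ * a)
      calc (b : G)⁻¹ * a * x = (b : G)⁻¹ * ((a : G) * x * (a : G)⁻¹) * a := by group
        _ = x * ((b : G)⁻¹ * a) := by rw [e]; group
    rcases d.inD_free hj hjM hx ((P.M u).mul_mem ((P.M u).inv_mem b.2) a.2) hc with h1 | h1
    · exact Subtype.ext (inv_mul_eq_one.1 h1).symm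
    · exact absurd h1 hx1
  have hmem : xi * x⁻¹ ∈ P.M u := by
    have h1 := d.conjH hxi.1 ((P.M u).inv_mem hxix)
    rw [mul_inv_rev, inv_inv, show xi * (x⁻¹ * xi) * xi⁻¹ = xi * x⁻¹ by group] at h1
    exact h1
  obtain ⟨⟨h, hh⟩, hhe⟩ := Finite.surjective_of_injective hf ⟨_, hmem⟩
  have e : h * x * h⁻¹ = xi := mul_right_cancel (congrArg Subtype.val hhe)
  refine ⟨h, hh, fun y hy => ?_⟩
  -- the centraliser of `x` in `M` is `D`
  have hcen : ∀ g ∈ d.Mn, Commute g x → d.InD j g := by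
    intro g hg hgx
    obtain ⟨a, ha, -, hag⟩ := d.exists_inD hj hjM hg
    rcases d.inD_free hj hjM hx hag
      ((d.inD_comm hj hjM ha hx).inv_left.mul_left hgx) with h1 | h1
    · exact inv_mul_eq_one.1 h1 ▸ ha
    · exact absurd h1 hx1
  obtain ⟨z, hz, -, hzy⟩ := d.exists_inD hi hiM
    (d.Mn.mul_mem (d.Mn.mul_mem (d.le_Mn hh) hy.1) (d.Mn.inv_mem (d.le_Mn hh)))
  have hzx : Commute z (h * x * h⁻¹) := by rw [e]; exact d.inD_comm hi hiM hz hxi
  have hzx' : Commute (h⁻¹ * z * h) x := by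
    have := hzx.map (MulAut.conj h⁻¹).toMonoidHom
    simp [mul_assoc] at this ⊢
    exact this
  have hz' := hcen _ (d.Mn.mul_mem (d.Mn.mul_mem (d.Mn.inv_mem (d.le_Mn hh)) hz.1) (d.le_Mn hh))
    hzx'
  have heq : h⁻¹ * z * h = y := d.inD_eq hj hjM hz' hy (by
    rw [show (h⁻¹ * z * h)⁻¹ * y = h⁻¹ * (z⁻¹ * (h * y * h⁻¹)) * h by group]
    exact d.conjH' (d.le_Mn hh) hzy)
  rw [← heq, show h * (h⁻¹ * z * h) * h⁻¹ = z by group]
  exact hz

/-- The part is transitive outside the base point. -/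
theorem exists_part_mul {j g : G} (hj : orderOf j = 2) (hjM : j ∉ d.Mn) (hg : g ∉ d.Mn) :
    ∃ h ∈ P.M u, (h * j)⁻¹ * g ∈ d.Mn := by
  classical
  obtain ⟨i, hi, hiM, hig⟩ := d.card_out hg
  obtain ⟨h, hh, hD⟩ := d.exists_conj_inD hj hjM hi hiM
  refine ⟨h, hh, ?_⟩
  have hhM := d.le_Mn hh
  obtain ⟨k, hk⟩ : ∃ k, k = h⁻¹ * i * h := ⟨_, rfl⟩
  have hko : orderOf k = 2 := by
    have := Involution.orderOf_conj_eq h⁻¹ i
    rw [inv_inv] at this
    rw [hk, this, hi]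
  have hkM : k ∉ d.Mn := fun e => hiM (by
    have := d.Mn.mul_mem (d.Mn.mul_mem hhM (hk ▸ e)) (d.Mn.inv_mem hhM)
    simpa [mul_assoc] using this)
  -- `D` fixes the point of `k`
  have hkD : ∀ y, d.InD j y → d.InD k y := fun y hy => ⟨hy.1, by
    rw [hk, show h⁻¹ * i * h * y * (h⁻¹ * i * h)⁻¹ = h⁻¹ * (i * (h * y * h⁻¹) * i⁻¹) * h by group]
    exact d.Mn.mul_mem (d.Mn.mul_mem (d.Mn.inv_mem hhM) (hD y hy).2) hhM⟩
  suffices hjk : j⁻¹ * k ∈ d.Mn by
    have h1 : (h * j)⁻¹ * g = j⁻¹ * k * h⁻¹ * (g⁻¹ * i)⁻¹ := by rw [hk]; group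
    rw [h1]
    exact d.Mn.mul_mem (d.Mn.mul_mem hjk (d.Mn.inv_mem hhM)) (d.Mn.inv_mem hig)
  by_contra hjk
  have hjj := Involution.mul_self_eq_one hj
  have hji := Involution.inv_eq_self hjj
  rw [hji] at hjk
  obtain ⟨l, hl, hlM, hlg⟩ := d.card_out hjk
  obtain ⟨y, hy, hy1⟩ := d.exists_inD_ne hj hjM
  have hjy : ∀ z, d.InD j z → j * z * j⁻¹ = z⁻¹ := fun z hz => d.inD_inverted hj hjM hz
  have hky : ∀ z, d.InD j z → k * z * k⁻¹ = z⁻¹ :=
    fun z hz => d.inD_inverted hko hkM (hkD z hz)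
  obtain ⟨n, hn, hln⟩ : ∃ n, n ∈ d.Mn ∧ l = j * k * n :=
    ⟨_, hlg, (mul_inv_cancel_left _ _).symm⟩
  have hyl : d.InD l y := by
    refine ⟨hy.1, ?_⟩
    have hl' : l = n⁻¹ * (j * k)⁻¹ := by
      rw [← Involution.inv_eq_self (Involution.mul_self_eq_one hl), hln, mul_inv_rev]
    rw [hl']
    have h3 : (j * k)⁻¹ * y * (j * k) = y := by
      have e1 : j⁻¹ * y * j = y⁻¹ := by
        have := hjy y hy
        rw [hji] at this ⊢
        exact this
      have e2 := hky y⁻¹ (hy.inv d)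
      rw [inv_inv, Involution.inv_eq_self (Involution.mul_self_eq_one hko)] at e2
      rw [mul_inv_rev, Involution.inv_eq_self (Involution.mul_self_eq_one hko),
        show k * j⁻¹ * y * (j * k) = k * (j⁻¹ * y * j) * k by group, e1]
      exact e2
    rw [show n⁻¹ * (j * k)⁻¹ * y * (n⁻¹ * (j * k)⁻¹)⁻¹ = n⁻¹ * ((j * k)⁻¹ * y * (j * k)) * n
      by group, h3]
    exact d.Mn.mul_mem (d.Mn.mul_mem (d.Mn.inv_mem hn) hy.1) hn
  have hly := d.inD_inverted hl hlM hyl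
  obtain ⟨m, hm⟩ : ∃ m, m = k * j * l := ⟨_, rfl⟩
  have hmM : m ∈ d.Mn := by
    rw [hm, hln, show k * j * (j * k * n) = k * (j * j) * k * n by group, hjj, mul_one,
      Involution.mul_self_eq_one hko, one_mul]
    exact hn
  have hmy : m * y * m⁻¹ = y⁻¹ := by
    rw [hm, show k * j * l * y * (k * j * l)⁻¹ = k * (j * (l * y * l⁻¹) * j⁻¹) * k⁻¹ by group, hly,
      hjy _ (hy.inv d), inv_inv, hky y hy]
  have hmem := d.quot_comm hmM hy.1
  rw [hmy] at hmem
  have hyy := d.inf_part_eq_one hj hjM hmem ((hy.inv d).mul d (hy.inv d)).2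
  exact hy1 (d.inD_sq hj hjM hy (by
    rw [← mul_inv_rev, inv_eq_one] at hyy
    exact hyy))

/-- The part acts semiregularly outside the base point. -/
theorem part_free {h g : G} (hh : h ∈ P.M u) (hg : g ∉ d.Mn)
    (hfix : g⁻¹ * h * g ∈ d.Mn) : h = 1 := by
  obtain ⟨i, hi, hiM, hig⟩ := d.card_out hg
  refine d.inf_part_eq_one hi hiM hh ?_
  have := d.Mn.mul_mem (d.Mn.mul_mem (d.Mn.inv_mem hig) hfix) hig
  have hii := Involution.inv_eq_self (Involution.mul_self_eq_one hi)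
  rw [show (g⁻¹ * i)⁻¹ * (g⁻¹ * h * g) * (g⁻¹ * i) = i⁻¹ * h * i by group, hii] at this
  rwa [hii]

end SEData

end Cfsg.Agent.Lib.GroupPartition
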