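import Cfsg.Agent.Lib.GroupPartition.Basic
import Cfsg.Agent.Lib.Involution.Basic
import Cfsg.Agent.Lib.Involution.BaerSuzuki
import Cfsg.Agent.Lib.MinimalNormal

/-!
# Group-theoretic tools for groups with a partition
-/

set_option autoImplicit false

open scoped Pointwise

namespace Cfsg.Agent.Lib.GroupPartition

variable {G : Type*} [Group G]

/-- A complement of a normal subgroup acting freely on it is a Frobenius complement. -/
theorem isFrobeniusComplement_of_free (S K : Subgroup G) [S.Normal] (h : S.IsComplement' K)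
    (hS : S ≠ ⊥) (hK : K ≠ ⊥)
    (hfree : ∀ k ∈ K, ∀ s ∈ S, k ≠ 1 → s ≠ 1 → ¬ Commute k s) :
    Cfsg.IsFrobeniusComplement K := by
  have hdisj : ∀ x, x ∈ S → x ∈ K → x = 1 := fun x h1 h2 =>
    Subgroup.mem_bot.1 (h.disjoint.le_bot ⟨h1, h2⟩)
  refine ⟨hK, fun e => hS ?_, fun g hg => ?_⟩
  · rw [Subgroup.eq_bot_iff_forall]
    exact fun s hs => hdisj s hs (e ▸ Subgroup.mem_top s)
  · obtain ⟨⟨⟨s, hs⟩, ⟨k, hk⟩⟩, hsk, -⟩ := (Subgroup.isComplement_iff_existsUnique.1 h) g
    simp only at hsk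
    rw [Subgroup.eq_bot_iff_forall]
    rintro y ⟨hy, hy'⟩
    replace hy' : y ∈ MulAut.conj g • K := hy'
    rw [Subgroup.mem_pointwise_smul_iff_inv_smul_mem, MulAut.smul_def,
      MulAut.conj_inv_apply] at hy'
    subst hsk
    have h1 : s⁻¹ * y * s ∈ K := by
      have := K.mul_mem (K.mul_mem hk hy') (K.inv_mem hk)
      convert this using 1
      group
    have hs1 : s ≠ 1 := fun e => hg (by rw [e, one_mul]; exact hk)
    have h3 : s⁻¹ * (y * s * y⁻¹) = 1 := by
      refine hdisj _ (S.mul_mem (S.inv_mem hs) (Subgroup.Normal.conj_mem inferInstance _ hs _)) ?_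
      rw [← mul_assoc, ← mul_assoc]
      exact K.mul_mem h1 (K.inv_mem hy)
    by_contra hy1
    exact hfree y hy s hs hy1 hs1 (mul_inv_eq_iff_eq_mul.1 (inv_mul_eq_one.1 h3).symm)

/-- No element of order `q` normalises a nontrivial `t`-subgroup for a prime `t ≠ q`. -/
def NoNorm (q : ℕ) (G : Type*) [Group G] : Prop :=
  ∀ z : G, orderOf z = q → ∀ t : ℕ, t.Prime → t ≠ q → ∀ D : Subgroup G, IsPGroup t D →
    (∀ d ∈ D, z * d * z⁻¹ ∈ D) → D = ⊥

section Finite

variable [Finite G]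

theorem orderOf_of_isPGroup {t : ℕ} (ht : t.Prime) {D : Subgroup G} (hD : IsPGroup t D) {d : G}
    (hd : d ∈ D) : ∃ k, orderOf d = t ^ k := by
  haveI := Fact.mk ht
  obtain ⟨k, hk⟩ := IsPGroup.iff_orderOf.mp hD ⟨d, hd⟩
  exact ⟨k, by rw [← hk, Subgroup.orderOf_mk]⟩

theorem eq_of_dvd_orderOf {t s : ℕ} (ht : t.Prime) (hs : s.Prime) {D : Subgroup G}
    (hD : IsPGroup t D) {d : G} (hd : d ∈ D) (h : s ∣ orderOf d) : s = t := by
  obtain ⟨k, hk⟩ := orderOf_of_isPGroup ht hD hd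
  exact (Nat.prime_dvd_prime_iff_eq hs ht).1 (hs.dvd_of_dvd_pow (hk ▸ h))

theorem dvd_orderOf_of_ne_one {t : ℕ} (ht : t.Prime) {D : Subgroup G}
    (hD : IsPGroup t D) {d : G} (hd : d ∈ D) (h : d ≠ 1) : t ∣ orderOf d := by
  obtain ⟨k, hk⟩ := orderOf_of_isPGroup ht hD hd
  rcases k with _ | k
  · exact absurd (orderOf_eq_one_iff.1 (by rw [hk, pow_zero])) h
  · exact ⟨t ^ k, by rw [hk, pow_succ']⟩

theorem exists_pow_orderOf_eq {x : G} {p : ℕ} (hp : p.Prime) (h : p ∣ orderOf x) :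
    ∃ k, orderOf (x ^ k) = p :=
  ⟨orderOf x / p, by
    rw [orderOf_pow_of_dvd ?_ (Nat.div_dvd_of_dvd h), Nat.div_div_self h (orderOf_pos x).ne']
    exact (Nat.div_pos (Nat.le_of_dvd (orderOf_pos x) h) hp.pos).ne'⟩

/-- Frattini argument for an element normalising a subgroup. -/
theorem exists_frattini (t : ℕ) [Fact t.Prime] (N : Subgroup G) (z : G)
    (hN : ∀ n ∈ N, z * n * z⁻¹ ∈ N) :
    ∃ D : Subgroup G, D ≤ N ∧ IsPGroup t D ∧ ¬ t ∣ D.relIndex N ∧
      ∃ n ∈ N, ∀ d ∈ D, (n * z) * d * (n * z)⁻¹ ∈ D := by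
  obtain ⟨P⟩ : Nonempty (Sylow t N) := inferInstance
  let D : Subgroup G := (P : Subgroup N).map N.subtype
  have hDN : D ≤ N := Subgroup.map_subtype_le _
  have hsub : D.subgroupOf N = P := Subgroup.comap_map_eq_self_of_injective N.subtype_injective _
  refine ⟨D, hDN, P.2.map _, ?_, ?_⟩
  · rw [Subgroup.relIndex, hsub]
    exact P.not_dvd_index
  · let f : N →* N :=
      { toFun := fun a => ⟨z * a * z⁻¹, hN a a.2⟩
        map_one' := by ext; simp
        map_mul' := fun a b => by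
          ext
          simp only [Subgroup.coe_mul]
          group }
    obtain ⟨Q, hQ⟩ := (P.2.map f).exists_le_sylow
    obtain ⟨c, hc⟩ := MulAction.exists_smul_eq N Q P
    refine ⟨c, c.2, ?_⟩
    rintro _ ⟨a, ha, rfl⟩
    refine ⟨c * f a * c⁻¹, ?_, by simp [f, mul_assoc]⟩
    rw [← hc, Sylow.smul_def]
    exact ⟨f a, hQ ⟨a, ha, rfl⟩, rfl⟩

theorem exists_maximal_normal_pGroup (p : ℕ) [Fact p.Prime] (G : Type*) [Group G] [Finite G] :
    ∃ T : Subgroup G, T.Normal ∧ IsPGroup p T ∧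
      ∀ N : Subgroup G, N.Normal → IsPGroup p N → N ≤ T := by
  obtain ⟨T, -, hT⟩ := (Set.toFinite {N : Subgroup G | N.Normal ∧ IsPGroup p N}).exists_le_maximal
    (⟨inferInstance, IsPGroup.of_bot⟩ : (⊥ : Subgroup G).Normal ∧ IsPGroup p (⊥ : Subgroup G))
  refine ⟨T, hT.1.1, hT.1.2, fun N hN hNp => ?_⟩
  haveI := hT.1.1
  haveI := hN
  have := hT.2 ⟨inferInstance, hT.1.2.to_sup_of_normal_left hNp⟩ le_sup_left
  exact le_sup_right.trans this

/-- The property `NoNorm` passes to quotients by normal `q`-subgroups. -/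
theorem NoNorm.quotient {q : ℕ} (hq : q.Prime) (h : NoNorm q G) (T : Subgroup G) [T.Normal] :
    NoNorm q (G ⧸ T) := by
  intro zb hzb t ht htq Db hDb hnorm
  obtain ⟨z, rfl⟩ := QuotientGroup.mk_surjective zb
  haveI := Fact.mk ht
  by_contra hne
  let N := Db.comap (QuotientGroup.mk' T)
  obtain ⟨D, hDN, hDp, hidx, n, hn, hDn⟩ := exists_frattini t N z fun a ha => by
    simpa [N] using hnorm _ (show (a : G ⧸ T) ∈ Db from ha)
  have htD : D ≠ ⊥ := by
    intro e
    apply hidx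
    rw [e, Subgroup.relIndex_bot_left]
    obtain ⟨d, hd, hd1⟩ : ∃ d ∈ Db, d ≠ 1 := by
      by_contra h'
      push Not at h'
      exact hne ((Subgroup.eq_bot_iff_forall _).2 h')
    obtain ⟨a, rfl⟩ := QuotientGroup.mk_surjective d
    exact ((dvd_orderOf_of_ne_one ht hDb hd hd1).trans
      (orderOf_map_dvd (QuotientGroup.mk' T) a)).trans (N.orderOf_dvd_natCard hd)
  have hpow : ∀ k : ℕ, ∃ d ∈ Db, ((n * z : G) : G ⧸ T) ^ k = d * (z : G ⧸ T) ^ k := by
    intro k
    induction k with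
    | zero => exact ⟨1, Db.one_mem, by simp⟩
    | succ k ih =>
      obtain ⟨d, hd, e⟩ := ih
      refine ⟨(n : G ⧸ T) * ((z : G ⧸ T) * d * (z : G ⧸ T)⁻¹), Db.mul_mem hn (hnorm d hd), ?_⟩
      rw [pow_succ', e, pow_succ', QuotientGroup.mk_mul]
      group
  have hqo : q ∣ orderOf (n * z) := by
    obtain ⟨d, hd, e⟩ := hpow (orderOf (n * z))
    rw [← QuotientGroup.mk_pow, pow_orderOf_eq_one, QuotientGroup.mk_one, eq_comm,
      mul_eq_one_iff_eq_inv] at e
    rw [← hzb]
    apply orderOf_dvd_of_pow_eq_one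
    by_contra hne1
    have hmem : (z : G ⧸ T) ^ orderOf (n * z) ∈ Db := by
      have := Db.inv_mem hd; rw [e, inv_inv] at this; exact this
    have h1 := dvd_orderOf_of_ne_one ht hDb hmem hne1
    have h2 := h1.trans (orderOf_pow_dvd _)
    rw [hzb] at h2
    exact htq ((Nat.prime_dvd_prime_iff_eq ht hq).1 h2)
  obtain ⟨k, hk⟩ := exists_pow_orderOf_eq hq hqo
  have hnk : ∀ d ∈ D, (n * z) ^ k * d * ((n * z) ^ k)⁻¹ ∈ D := by
    clear hk
    induction k with
    | zero => intro d hd; simpa using hd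
    | succ k ih =>
      intro d hd
      have := hDn _ (ih d hd)
      convert this using 1
      rw [pow_succ']
      simp only [mul_inv_rev, mul_assoc]
  exact htD (h _ hk t ht htq D hDp hnk)

/-- With `NoNorm 2`, every involution lies in a normal `2`-subgroup. -/
theorem NoNorm.exists_two (h : NoNorm 2 G) {z : G} (hz : orderOf z = 2) :
    ∃ N : Subgroup G, N.Normal ∧ IsPGroup 2 N ∧ z ∈ N := by
  haveI : Fact (Nat.Prime 2) := ⟨Nat.prime_two⟩
  refine Involution.baer_suzuki_element z fun g => ?_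
  have hz2 : z * z = 1 := Involution.mul_self_eq_one hz
  have hz2' : (g * z * g⁻¹) * (g * z * g⁻¹) = 1 := by
    rw [show (g * z * g⁻¹) * (g * z * g⁻¹) = g * (z * z) * g⁻¹ by group, hz2]; group
  set c := z * (g * z * g⁻¹) with hc
  by_cases hr : ∀ r : ℕ, r.Prime → r ∣ orderOf c → r = 2
  · refine Involution.isPGroup_two_closure_pair hz2 hz2' ((orderOf c).primeFactorsList.length) ?_
    rw [← hc]
    have := Nat.eq_prime_pow_of_unique_prime_dvd (orderOf_pos c).ne' (fun {d} hd hdd => hr d hd hdd)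
    rw [← this, pow_orderOf_eq_one]
  · push Not at hr
    obtain ⟨r, hr, hrd, hr2⟩ := hr
    obtain ⟨k, hk⟩ := exists_pow_orderOf_eq hr hrd
    exfalso
    haveI := Fact.mk hr
    have hD : IsPGroup r (Subgroup.zpowers (c ^ k)) :=
      IsPGroup.of_card (n := 1) (by rw [Nat.card_zpowers, hk, pow_one])
    have hbot := h z hz r hr hr2 _ hD ?_
    · rw [Subgroup.zpowers_eq_bot] at hbot
      rw [hbot, orderOf_one] at hk
      exact hr.one_lt.ne hk
    · rintro _ ⟨j, rfl⟩
      refine ⟨-j, ?_⟩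
      simp only
      rw [← zpow_natCast c k, ← zpow_mul, ← zpow_mul, hc, Involution.conj_zpow_pair hz2 hz2']
      rw [← zpow_neg]
      congr 1
      ring

/-- With `NoNorm 2`, the Sylow `2`-subgroup is normal. -/
theorem NoNorm.sylow_two (h : NoNorm 2 G) :
    ∃ T : Subgroup G, T.Normal ∧ IsPGroup 2 T ∧ ¬ 2 ∣ T.index := by
  haveI : Fact (Nat.Prime 2) := ⟨Nat.prime_two⟩
  obtain ⟨T, hTn, hTp, hmax⟩ := exists_maximal_normal_pGroup 2 G
  refine ⟨T, hTn, hTp, fun hd => ?_⟩
  rw [Subgroup.index_eq_card] at hd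
  obtain ⟨zb, hzb⟩ := exists_prime_orderOf_dvd_card' (G := G ⧸ T) 2 hd
  obtain ⟨N, hN, hNp, hzN⟩ := (h.quotient Nat.prime_two T).exists_two hzb
  have hp : IsPGroup 2 (N.comap (QuotientGroup.mk' T)) :=
    hNp.comap_of_ker_isPGroup _ (by rwa [QuotientGroup.ker_mk'])
  obtain ⟨z, rfl⟩ := QuotientGroup.mk_surjective zb
  have hzT : z ∈ T := hmax _ (hN.comap _) hp hzN
  rw [(QuotientGroup.eq_one_iff z).2 hzT, orderOf_one] at hzb
  omega

/-- With `NoNorm q` in a solvable group, the Sylow `q`-subgroup is normal. -/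
theorem NoNorm.sylow_solvable {q : ℕ} (hq : q.Prime) [Group.IsSolvable G] (h : NoNorm q G) :
    ∃ T : Subgroup G, T.Normal ∧ IsPGroup q T ∧ ¬ q ∣ T.index := by
  haveI := Fact.mk hq
  obtain ⟨T, hTn, hTp, hmax⟩ := exists_maximal_normal_pGroup q G
  refine ⟨T, hTn, hTp, fun hd => ?_⟩
  rw [Subgroup.index_eq_card] at hd
  obtain ⟨zb, hzb⟩ := exists_prime_orderOf_dvd_card' (G := G ⧸ T) q hd
  haveI : Nontrivial (G ⧸ T) := ⟨⟨zb, 1, fun e => by
    rw [e, orderOf_one] at hzb; exact hq.one_lt.ne hzb⟩⟩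
  obtain ⟨N, hN, hNne, -, hmin⟩ :=
    MinimalNormal.exists_minimal_normal_le (G := G ⧸ T) Subgroup.normal_top top_ne_bot
  obtain ⟨-, r, hr, hexp⟩ := MinimalNormal.elementaryAbelian N hNne hmin
  haveI := Fact.mk hr
  have hNr : IsPGroup r N := fun x => ⟨1, Subtype.ext (by
    rw [pow_one, Subgroup.coe_pow, hexp _ x.2, Subgroup.coe_one])⟩
  by_cases hrq : r = q
  · subst hrq
    apply hNne
    rw [Subgroup.eq_bot_iff_forall]
    intro d hd'
    obtain ⟨a, rfl⟩ := QuotientGroup.mk_surjective d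
    rw [QuotientGroup.eq_one_iff]
    exact hmax _ (hN.comap (QuotientGroup.mk' T))
      (hNr.comap_of_ker_isPGroup _ (by rwa [QuotientGroup.ker_mk'])) hd'
  · exact hNne (h.quotient hq T zb hzb r hr hrq N hNr fun d hd' => hN.conj_mem d hd' zb)

/-- A centraliser of an involution covering the quotient by a normal `q`-subgroup. -/
theorem not_dvd_index_of_involution {q : ℕ} (hq : q.Prime) (hq2 : q ≠ 2) {z : G}
    (hz : orderOf z = 2) (C : Subgroup G) [C.Normal] (hC : IsPGroup q C)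
    (hcomm : ∀ g : G, g * z * g⁻¹ * z ∈ C)
    (hno : ∀ n : G, orderOf n = q → ¬ Commute n z) : ¬ q ∣ C.index := by
  haveI := Fact.mk hq
  intro hd
  rw [Subgroup.index_eq_card] at hd
  obtain ⟨gb, hgb⟩ := exists_prime_orderOf_dvd_card' (G := G ⧸ C) q hd
  obtain ⟨g, rfl⟩ := QuotientGroup.mk_surjective gb
  have hz2 : z * z = 1 := Involution.mul_self_eq_one hz
  set a := g * z * g⁻¹ with ha
  have ha2 : a * a = 1 := by
    rw [ha, show (g * z * g⁻¹) * (g * z * g⁻¹) = g * (z * z) * g⁻¹ by group, hz2]; group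
  have hodd : Odd (orderOf (a * z)) := by
    obtain ⟨k, hk⟩ := orderOf_of_isPGroup hq hC (hcomm g)
    rw [hk]
    exact (hq.odd_of_ne_two hq2).pow
  have hex := Involution.exists_conj_of_odd ha2 hz2 hodd
  rw [Involution.exists_conj_left_iff ha2 hz2] at hex
  obtain ⟨k, hk⟩ := hex
  rw [← Involution.zpow_conj_left ha2 hz2] at hk
  set d := (a * z) ^ k with hd'
  have hdC : d ∈ C := hd' ▸ C.zpow_mem (hcomm g) k
  have hc : Commute (d * g) z := by
    apply mul_inv_eq_iff_eq_mul.1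
    conv_rhs => rw [← hk, ha]
    group
  have hmk : ((d * g : G) : G ⧸ C) = g := by
    rw [QuotientGroup.mk_mul, (QuotientGroup.eq_one_iff d).2 hdC, one_mul]
  have hqd : q ∣ orderOf (d * g) := by
    rw [← hgb, ← hmk]
    exact orderOf_map_dvd (QuotientGroup.mk' C) (d * g)
  obtain ⟨j, hj⟩ := exists_pow_orderOf_eq hq hqd
  exact hno _ hj (hc.pow_left j)

/-- The key product identity: a fixed-point-free group kills a conjugate-norm-trivial module. -/
theorem split_pow_card_eq_one (V D : Subgroup G) {z : G} {r : ℕ} (hr : r.Prime)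
    (hzr : z ^ r = 1) (hVc : ∀ a ∈ V, ∀ b ∈ V, a * b = b * a)
    (hDV : ∀ d ∈ D, ∀ v ∈ V, d * v * d⁻¹ ∈ V) (hzV : ∀ v ∈ V, z * v * z⁻¹ ∈ V)
    (hzD : ∀ d ∈ D, z * d * z⁻¹ ∈ D) (hpow : ∀ v ∈ V, (v * z) ^ r = 1)
    (hCD : ∀ d ∈ D, Commute z d → d = 1)
    (hCV : ∀ v ∈ V, (∀ d ∈ D, Commute d v) → v = 1) :
    ∀ v ∈ V, v ^ Nat.card D = 1 := by
  classical
  letI : CommGroup V :=
    { (inferInstance : Group V) with mul_comm := fun a b => Subtype.ext (hVc a a.2 b b.2) }
  haveI : Fintype D := Fintype.ofFinite D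
  have hzjV : ∀ (j : ℕ), ∀ v ∈ V, z ^ j * v * (z ^ j)⁻¹ ∈ V := by
    intro j
    induction j with
    | zero => intro v hv; simpa using hv
    | succ j ih =>
      intro v hv
      have := hzV _ (ih v hv)
      convert this using 1
      rw [pow_succ']; group
  have hzjD : ∀ (j : ℕ), ∀ d ∈ D, z ^ j * d * (z ^ j)⁻¹ ∈ D := by
    intro j
    induction j with
    | zero => intro v hv; simpa using hv
    | succ j ih =>
      intro v hv
      have := hzD _ (ih v hv)
      convert this using 1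
      rw [pow_succ']; group
  let cj : ℕ → V → V := fun j v => ⟨z ^ j * v * (z ^ j)⁻¹, hzjV j v v.2⟩
  have hprod : ∀ (v : V) (n : ℕ),
      ((v : G) * z) ^ n = ((∏ j ∈ Finset.range n, cj j v : V) : G) * z ^ n := by
    intro v n
    induction n with
    | zero => simp
    | succ n ih =>
      have hs : (∏ j ∈ Finset.range (n + 1), cj j v : V) =
          v * ⟨z * ((∏ j ∈ Finset.range n, cj j v : V) : G) * z⁻¹,
            hzV _ (∏ j ∈ Finset.range n, cj j v : V).2⟩ := by
        let c1 : V →* V :=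
          { toFun := fun w => ⟨z * w * z⁻¹, hzV w w.2⟩
            map_one' := by ext; simp
            map_mul' := fun a b => by ext; simp only [Subgroup.coe_mul]; group }
        show _ = v * c1 (∏ j ∈ Finset.range n, cj j v)
        rw [map_prod, Finset.prod_range_succ', mul_comm]
        congr 1
        · ext; simp [cj]
        · refine Finset.prod_congr rfl fun j _ => ?_
          ext
          simp only [c1, cj, MonoidHom.coe_mk, OneHom.coe_mk, pow_succ']
          group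
      rw [pow_succ', ih, hs, pow_succ']
      simp only [Subgroup.coe_mul]
      group
  have hnorm : ∀ v : V, ∏ j ∈ Finset.range r, cj j v = 1 := by
    intro v
    have h1 := hpow v v.2
    rw [hprod, hzr, mul_one] at h1
    exact Subtype.ext h1
  let dj : D → V →* V := fun d =>
    { toFun := fun w => ⟨d * w * (d : G)⁻¹, hDV d d.2 w w.2⟩
      map_one' := by ext; simp
      map_mul' := fun a b => by ext; simp only [Subgroup.coe_mul]; group }
  have hfix : ∀ w : V, ∏ d : D, dj d w = 1 := by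
    intro w
    apply Subtype.ext
    refine hCV _ (∏ d : D, dj d w).2 fun e he => ?_
    apply mul_inv_eq_iff_eq_mul.1
    have : dj ⟨e, he⟩ (∏ d : D, dj d w) = ∏ d : D, dj d w := by
      rw [map_prod]
      refine Fintype.prod_equiv (Equiv.mulLeft (⟨e, he⟩ : D)) _ _ fun d => ?_
      ext
      simp only [dj, MonoidHom.coe_mk, OneHom.coe_mk, Equiv.coe_mulLeft, Subgroup.coe_mul]
      group
    exact congrArg Subtype.val this
  intro v hv
  let φ : ℕ → D → D := fun j d =>
    ⟨d * (z ^ j * (d : G)⁻¹ * (z ^ j)⁻¹), D.mul_mem d.2 (hzjD j _ (D.inv_mem d.2))⟩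
  have hφ : ∀ j, 1 ≤ j → j < r → Function.Bijective (φ j) := by
    intro j hj1 hjr
    rw [← Finite.injective_iff_bijective]
    intro a b hab
    have hab' := congrArg Subtype.val hab
    simp only [φ] at hab'
    have hc : Commute (z ^ j) ((b : G)⁻¹ * a) := by
      show z ^ j * _ = _ * z ^ j
      calc z ^ j * ((b : G)⁻¹ * a)
          = (b : G)⁻¹ * ((b : G) * (z ^ j * (b : G)⁻¹ * (z ^ j)⁻¹)) * z ^ j * a := by group
        _ = (b : G)⁻¹ * ((a : G) * (z ^ j * (a : G)⁻¹ * (z ^ j)⁻¹)) * z ^ j * a := by rw [hab']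
        _ = (b : G)⁻¹ * a * z ^ j := by group
    have hcz : Commute z ((b : G)⁻¹ * a) := by
      obtain ⟨i, hi⟩ : ∃ i : ℕ, (z ^ j) ^ i = z := by
        have hco : j.Coprime r := ((hr.coprime_iff_not_dvd).2 fun h =>
          absurd (Nat.le_of_dvd hj1 h) (by omega)).symm
        obtain ⟨i, -, hi⟩ := Nat.exists_mul_mod_eq_one_of_coprime hco hr.one_lt
        refine ⟨i, ?_⟩
        rw [← pow_mul, ← Nat.mod_add_div (j * i) r, hi, pow_add, pow_mul, hzr, one_pow, mul_one,
          pow_one]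
      rw [← hi]; exact hc.pow_left i
    exact Subtype.ext (inv_mul_eq_one.1 (hCD _ (D.mul_mem (D.inv_mem b.2) a.2) hcz)).symm
  have h2 : ∏ d : D, ∏ j ∈ Finset.range r, dj d (cj j (dj d⁻¹ ⟨v, hv⟩)) = 1 := by
    refine Finset.prod_eq_one fun d _ => ?_
    rw [← map_prod, hnorm, map_one]
  rw [Finset.prod_comm, Finset.prod_eq_single 0] at h2
  · have h3 : ∀ d : D, dj d (cj 0 (dj d⁻¹ ⟨v, hv⟩)) = ⟨v, hv⟩ := by
      intro d
      ext
      simp only [dj, cj, MonoidHom.coe_mk, OneHom.coe_mk, pow_zero, Subgroup.coe_inv]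
      group
    rw [Finset.prod_congr rfl (fun d _ => h3 d), Finset.prod_const, Finset.card_univ,
      ← Nat.card_eq_fintype_card] at h2
    exact congrArg Subtype.val h2
  · intro j hj hj0
    rw [← hfix (cj j ⟨v, hv⟩)]
    refine Fintype.prod_bijective (φ j) (hφ j (by omega) (Finset.mem_range.1 hj)) _ _ fun d => ?_
    ext
    simp only [dj, cj, φ, MonoidHom.coe_mk, OneHom.coe_mk, Subgroup.coe_inv]
    group
  · intro h0
    exact absurd (Finset.mem_range.2 hr.pos) h0

end Finite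

end Cfsg.Agent.Lib.GroupPartition
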